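import Cfsg.Agent.PComp.PGen

/-!
# `O_{p'}(H)` as a subgroup of the ambient group

`ppCore p H` is a reducible abbreviation of `(pPrimeCore p H).map H.subtype`.
-/

set_option autoImplicit false

open Cfsg Subgroup
open scoped Pointwise

namespace CL.PComp

open CL.Transfer

variable {G : Type*} [Group G] {p : ℕ}

/-- `O_{p'}(H)` as a subgroup of the ambient group. -/
abbrev ppCore (p : ℕ) (H : Subgroup G) : Subgroup G := (pPrimeCore p H).map H.subtype

theorem centralizerPPrimeCore_eq (x : G) :
    centralizerPPrimeCore p x = ppCore p (centralizer {x}) := rfl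

theorem coprime_card_of_le {H K : Subgroup G} (h : H ≤ K) (hK : (Nat.card K).Coprime p) :
    (Nat.card H).Coprime p :=
  Nat.Coprime.coprime_dvd_left (card_dvd_of_le h) hK

theorem coprime_card_map {G' : Type*} [Group G'] (f : G →* G') {H : Subgroup G}
    (hH : (Nat.card H).Coprime p) : (Nat.card (H.map f)).Coprime p :=
  Nat.Coprime.coprime_dvd_left (card_map_dvd H f) hH

theorem coprime_card_sup [Finite G] {H N : Subgroup G} [N.Normal] (hH : (Nat.card H).Coprime p)
    (hN : (Nat.card N).Coprime p) : (Nat.card (H ⊔ N : Subgroup G)).Coprime p := by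
  have h1 : H.relIndex (H ⊔ N) * Nat.card H = Nat.card (H ⊔ N : Subgroup G) := by
    rw [← relIndex_bot_left H, ← relIndex_bot_left (H ⊔ N), mul_comm]
    exact relIndex_mul_relIndex ⊥ H _ bot_le le_sup_left
  rw [← h1]
  exact Nat.Coprime.mul_left (Nat.Coprime.coprime_dvd_left (relIndex_sup_dvd_card H N) hN) hH

/-- The product of two subgroups of order prime to `p`, one normalising the other, has order
prime to `p`. -/
theorem coprime_card_sup_of_le_normalizer [Finite G] {H N : Subgroup G}
    (h : H ≤ normalizer (N : Set G)) (hH : (Nat.card H).Coprime p)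
    (hN : (Nat.card N).Coprime p) : (Nat.card (H ⊔ N : Subgroup G)).Coprime p := by
  set M := normalizer (N : Set G)
  have hNM : N ≤ M := le_normalizer
  have : (N.subgroupOf M).Normal := normal_in_normalizer
  have h1 := coprime_card_sup (p := p) (H := H.subgroupOf M) (N := N.subgroupOf M)
    (by rwa [Nat.card_congr (subgroupOfEquivOfLe h).toEquiv])
    (by rwa [Nat.card_congr (subgroupOfEquivOfLe hNM).toEquiv])
  have h2 := coprime_card_map M.subtype h1
  rwa [Subgroup.map_sup, map_subgroupOf_eq_of_le h, map_subgroupOf_eq_of_le hNM] at h2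

theorem coprime_card_comap {G' : Type*} [Group G'] [Finite G] (f : G →* G')
    (hf : (Nat.card f.ker).Coprime p) {H : Subgroup G'} (hH : (Nat.card H).Coprime p) :
    (Nat.card (H.comap f)).Coprime p := by
  have h1 : f.ker.relIndex (H.comap f) * Nat.card f.ker = Nat.card (H.comap f) := by
    rw [← relIndex_bot_left f.ker, ← relIndex_bot_left (H.comap f), mul_comm]
    exact relIndex_mul_relIndex ⊥ _ _ bot_le (ker_le_comap f H)
  rw [← h1, relIndex_ker]
  exact Nat.Coprime.mul_left (coprime_card_of_le (map_comap_le f H) hH) hf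

theorem le_pPrimeCore' {N : Subgroup G} (hN : N.Normal) (h : (Nat.card N).Coprime p) :
    N ≤ pPrimeCore p G :=
  le_sSup ⟨hN, h⟩

theorem coprime_card_pPrimeCore' [Finite G] : (Nat.card (pPrimeCore p G)).Coprime p := by
  classical
  have hfin : {N : Subgroup G | N.Normal ∧ (Nat.card N).Coprime p}.Finite := Set.toFinite _
  have : (fun N : Subgroup G => N.Normal ∧ (Nat.card N).Coprime p) (pPrimeCore p G) := by
    rw [pPrimeCore, ← hfin.coe_toFinset, ← Finset.sup_id_eq_sSup]
    refine Finset.sup_induction (p := fun N : Subgroup G => N.Normal ∧ (Nat.card N).Coprime p)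
      ⟨inferInstance, by simp⟩ ?_ (by simp)
    rintro A ⟨hA, hA'⟩ B ⟨hB, hB'⟩
    exact ⟨inferInstance, coprime_card_sup hA' hB'⟩
  exact this.2

theorem map_pPrimeCore_le {G' : Type*} [Group G'] {f : G →* G'} (hf : Function.Surjective f) :
    (pPrimeCore p G).map f ≤ pPrimeCore p G' := by
  rw [pPrimeCore, (gc_map_comap f).l_sSup, iSup₂_le_iff]
  exact fun N hN => le_pPrimeCore' (hN.1.map f hf) (coprime_card_map f hN.2)

theorem map_pPrimeCore_equiv {G' : Type*} [Group G'] (f : G ≃* G') :
    (pPrimeCore p G).map f.toMonoidHom = pPrimeCore p G' := by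
  refine le_antisymm (map_pPrimeCore_le f.surjective) fun x hx => ?_
  exact ⟨f.symm x, map_pPrimeCore_le (f := f.symm.toMonoidHom) f.symm.surjective
    (mem_map_of_mem _ hx), f.apply_symm_apply x⟩

/-- A surjection with kernel of order prime to `p` matches the `p'`-cores. -/
theorem comap_pPrimeCore [Finite G] {G' : Type*} [Group G'] {f : G →* G'}
    (hf : Function.Surjective f) (hk : (Nat.card f.ker).Coprime p) :
    (pPrimeCore p G').comap f = pPrimeCore p G := by
  have : Finite G' := Finite.of_surjective f hf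
  refine le_antisymm (le_pPrimeCore' inferInstance
    (coprime_card_comap f hk coprime_card_pPrimeCore')) ?_
  exact map_le_iff_le_comap.1 (map_pPrimeCore_le hf)

theorem map_pPrimeCore [Finite G] {G' : Type*} [Group G'] {f : G →* G'}
    (hf : Function.Surjective f) (hk : (Nat.card f.ker).Coprime p) :
    (pPrimeCore p G).map f = pPrimeCore p G' := by
  rw [← comap_pPrimeCore hf hk, map_comap_eq_self_of_surjective hf]

theorem coprime_card_ker_mk' {N : Subgroup G} [N.Normal] (hN : (Nat.card N).Coprime p) :
    (Nat.card (QuotientGroup.mk' N).ker).Coprime p := by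
  rwa [QuotientGroup.ker_mk']

theorem pPrimeCore_quotient_eq_bot [Finite G] : pPrimeCore p (G ⧸ pPrimeCore p G) = ⊥ := by
  rw [← map_pPrimeCore (QuotientGroup.mk'_surjective _)
    (coprime_card_ker_mk' coprime_card_pPrimeCore'), Subgroup.map_eq_bot_iff, QuotientGroup.ker_mk']

/-! ### ambient form -/

theorem ppCore_le (H : Subgroup G) : ppCore p H ≤ H := map_subtype_le _

theorem ppCore_top : ppCore p (⊤ : Subgroup G) = pPrimeCore p G :=
  map_pPrimeCore_equiv (topEquiv : (⊤ : Subgroup G) ≃* G)

theorem coprime_card_ppCore [Finite G] (H : Subgroup G) : (Nat.card (ppCore p H)).Coprime p :=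
  coprime_card_map _ coprime_card_pPrimeCore'

theorem subgroupOf_ppCore_self (H : Subgroup G) : (ppCore p H).subgroupOf H = pPrimeCore p H :=
  comap_map_eq_self_of_injective H.subtype_injective _

theorem le_ppCore {N H : Subgroup G} (hle : N ≤ H) (hn : H ≤ normalizer (N : Set G))
    (h : (Nat.card N).Coprime p) : N ≤ ppCore p H := by
  rw [← map_subgroupOf_eq_of_le hle]
  exact map_mono (le_pPrimeCore' (normal_subgroupOf_of_le_normalizer hn)
    (by rwa [Nat.card_congr (subgroupOfEquivOfLe hle).toEquiv]))

theorem map_ppCore_le {G' : Type*} [Group G'] (f : G →* G') (H : Subgroup G) :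
    (ppCore p H).map f ≤ ppCore p (H.map f) := by
  have : (H.map f).subtype.comp (f.subgroupMap H) = f.comp H.subtype := rfl
  rw [ppCore, map_map, ← this, ← map_map]
  exact map_mono (map_pPrimeCore_le (f.subgroupMap_surjective H))

theorem map_ppCore_of_injective {G' : Type*} [Group G'] {f : G →* G'}
    (hf : Function.Injective f) (H : Subgroup G) : (ppCore p H).map f = ppCore p (H.map f) := by
  have : (H.map f).subtype.comp (H.equivMapOfInjective f hf).toMonoidHom = f.comp H.subtype := rfl
  rw [ppCore, map_map, ← this, ← map_map, map_pPrimeCore_equiv]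

/-- A homomorphism whose kernel meets `H` in a `p'`-group matches the `p'`-cores. -/
theorem map_ppCore [Finite G] {G' : Type*} [Group G'] {f : G →* G'} {H : Subgroup G}
    (hk : (Nat.card (f.ker ⊓ H : Subgroup G)).Coprime p) :
    (ppCore p H).map f = ppCore p (H.map f) := by
  have : (H.map f).subtype.comp (f.subgroupMap H) = f.comp H.subtype := rfl
  rw [ppCore, map_map, ← this, ← map_map, map_pPrimeCore (f.subgroupMap_surjective H)]
  have h1 : (f.subgroupMap H).ker = (f.ker ⊓ H).subgroupOf H := by
    ext x; simp [MonoidHom.mem_ker, mem_subgroupOf, Subtype.ext_iff]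
  rwa [h1, Nat.card_congr (subgroupOfEquivOfLe inf_le_right).toEquiv]

theorem conj_smul_ppCore (g : G) (H : Subgroup G) :
    MulAut.conj g • ppCore p H = ppCore p (MulAut.conj g • H) :=
  map_ppCore_of_injective (f := (MulAut.conj g).toMonoidHom) (MulAut.conj g).injective H

theorem normalizer_le_normalizer_ppCore (H : Subgroup G) :
    normalizer (H : Set G) ≤ normalizer ((ppCore p H : Subgroup G) : Set G) := by
  intro g hg
  rw [← conj_smul_eq_iff_mem_normalizer] at hg ⊢
  rw [conj_smul_ppCore, hg]

theorem le_normalizer_ppCore (H : Subgroup G) :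
    H ≤ normalizer ((ppCore p H : Subgroup G) : Set G) :=
  le_normalizer.trans (normalizer_le_normalizer_ppCore H)

theorem subgroupOf_ppCore {H K : Subgroup G} (h : H ≤ K) :
    (ppCore p H).subgroupOf K = ppCore p (H.subgroupOf K) := by
  rw [← map_subtype_inj, map_ppCore_of_injective K.subtype_injective, map_subgroupOf_eq_of_le h,
    map_subgroupOf_eq_of_le ((ppCore_le H).trans h)]

variable [Finite G]

theorem ppCore_eq_self_iff {H : Subgroup G} : ppCore p H = H ↔ (Nat.card H).Coprime p :=
  ⟨fun h => h ▸ coprime_card_ppCore H,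
    fun h => le_antisymm (ppCore_le H) (le_ppCore le_rfl le_normalizer h)⟩

theorem ppCore_le_ppCore_of_le_normalizer {H K : Subgroup G} (hle : H ≤ K)
    (hn : K ≤ normalizer (H : Set G)) : ppCore p H ≤ ppCore p K :=
  le_ppCore ((ppCore_le H).trans hle) (hn.trans (normalizer_le_normalizer_ppCore H))
    (coprime_card_ppCore H)

/-- `O_{p'}(K) ∩ H ≤ O_{p'}(H)` for `H ≤ K`. -/
theorem ppCore_inf_le {H K : Subgroup G} (hle : H ≤ K) : ppCore p K ⊓ H ≤ ppCore p H :=
  le_ppCore inf_le_right
    ((le_inf (hle.trans (le_normalizer_ppCore K)) le_normalizer).trans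
      (normalizer_inf_le_normalizer_inf _ _))
    (coprime_card_of_le inf_le_left (coprime_card_ppCore K))

theorem pPrimeCore_inf_le (H : Subgroup G) : pPrimeCore p G ⊓ H ≤ ppCore p H :=
  ppCore_top (p := p) (G := G) ▸ ppCore_inf_le le_top

theorem ppCore_le_pPrimeCore {H : Subgroup G} (hH : H.IsSubnormal) :
    ppCore p H ≤ pPrimeCore p G := by
  induction hH with
  | top => exact ppCore_top.le
  | step H K hle _ hN ih =>
    exact (ppCore_le_ppCore_of_le_normalizer hle
      ((normal_subgroupOf_iff_le_normalizer hle).1 hN)).trans ih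

/-- A subnormal subgroup of order prime to `p` lies in `O_{p'}(G)`. -/
theorem le_pPrimeCore_of_isSubnormal {H : Subgroup G} (hH : H.IsSubnormal)
    (h : (Nat.card H).Coprime p) : H ≤ pPrimeCore p G :=
  (ppCore_eq_self_iff.2 h).ge.trans (ppCore_le_pPrimeCore hH)

theorem ppCore_eq_inf {H : Subgroup G} (hH : H.IsSubnormal) :
    ppCore p H = pPrimeCore p G ⊓ H :=
  le_antisymm (le_inf (ppCore_le_pPrimeCore hH) (ppCore_le H)) (pPrimeCore_inf_le H)

theorem ppCore_le_ppCore_of_isSubnormal {H K : Subgroup G} (hle : H ≤ K)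
    (hH : (H.subgroupOf K).IsSubnormal) : ppCore p H ≤ ppCore p K := by
  have := map_mono (f := K.subtype) (ppCore_le_pPrimeCore (p := p) hH)
  rwa [map_ppCore_of_injective K.subtype_injective, map_subgroupOf_eq_of_le hle] at this

theorem le_ppCore_of_isSubnormal {H K : Subgroup G} (hle : H ≤ K)
    (hH : (H.subgroupOf K).IsSubnormal) (h : (Nat.card H).Coprime p) : H ≤ ppCore p K :=
  (ppCore_eq_self_iff.2 h).ge.trans (ppCore_le_ppCore_of_isSubnormal hle hH)

theorem ppCore_eq_inf_of_isSubnormal {H K : Subgroup G} (hle : H ≤ K)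
    (hH : (H.subgroupOf K).IsSubnormal) : ppCore p H = ppCore p K ⊓ H :=
  le_antisymm (le_inf (ppCore_le_ppCore_of_isSubnormal hle hH) (ppCore_le H)) (ppCore_inf_le hle)

end CL.PComp
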