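import Cfsg.Agent.PComp.Ext
import Cfsg.Agent.PLocal.Constraint
import Cfsg.Agent.PLoc.PCore
import Cfsg.Agent.Solv.Coprime

/-!
# The inductive steps of L-balance and core balance

If `N` is a normal subgroup of `G` such that `C_G(Q)` has a normal `p`-complement for the Sylow
`p`-subgroups `Q` of `N`, then `L_{p'}(C_G(R)) ≤ N` for every `p`-subgroup `R`, and
`O_{p'}(C_G(R))` is controlled by `N` and the `O_{p'}(C_G(Q))`.
-/

set_option autoImplicit false

open Cfsg Subgroup
open scoped Pointwise commutatorElement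

namespace CL.PComp

open CL.Transfer

variable {G : Type*} [Group G] {p : ℕ}

theorem centralizer_subgroupOf_eq {R H : Subgroup G} (h : R ≤ H) :
    centralizer ((R.subgroupOf H : Subgroup H) : Set H) =
      (centralizer (R : Set G)).subgroupOf H := by
  ext x
  simp only [mem_subgroupOf, mem_centralizer_iff, SetLike.mem_coe]
  exact ⟨fun hx r hr => congrArg Subtype.val (hx ⟨r, h hr⟩ hr),
    fun hx r hr => Subtype.ext (hx r hr)⟩

theorem centralizer_sup_eq (R U : Subgroup G) :
    centralizer ((R ⊔ U : Subgroup G) : Set G) =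
      centralizer (R : Set G) ⊓ centralizer (U : Set G) := by
  refine le_antisymm (le_inf (centralizer_le (le_sup_left : R ≤ R ⊔ U))
    (centralizer_le (le_sup_right : U ≤ R ⊔ U))) ?_
  rw [le_centralizer_iff]
  exact sup_le (le_centralizer_iff.1 inf_le_left) (le_centralizer_iff.1 inf_le_right)

theorem centralizer_zpowers_eq (x : G) :
    centralizer ((zpowers x : Subgroup G) : Set G) = centralizer {x} := by
  rw [zpowers_eq_closure, centralizer_closure]

/-- A `p'`-element of `E P` (`E` normal, `P` a `p`-group) lies in `E`. -/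
theorem mem_of_mem_sup_of_coprime {E P : Subgroup G} [E.Normal] (hP : IsPGroup p P) {x : G}
    (hx : x ∈ E ⊔ P) (hc : (orderOf x).Coprime p) : x ∈ E := by
  have h1 : QuotientGroup.mk' E x ∈ P.map (QuotientGroup.mk' E) := by
    have := mem_map_of_mem (QuotientGroup.mk' E) hx
    rwa [Subgroup.map_sup, (Subgroup.map_eq_bot_iff E).2 (QuotientGroup.ker_mk' E).ge,
      bot_sup_eq] at this
  obtain ⟨k, hk⟩ := hP.map (QuotientGroup.mk' E) ⟨_, h1⟩
  have h2 := eq_one_of_pow_eq_one_of_coprime (congrArg Subtype.val hk)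
    (coprime_orderOf_map (QuotientGroup.mk' E) hc)
  exact (QuotientGroup.eq_one_iff x).1 h2

variable [Finite G] [hp : Fact p.Prime]

theorem coprime_orderOf_of_mem {Y : Subgroup G} (hY : (Nat.card Y).Coprime p) {y : G}
    (hy : y ∈ Y) : (orderOf y).Coprime p :=
  not_dvd_card_subgroup_iff.1 (hp.out.coprime_iff_not_dvd.1 hY.symm) y hy

theorem mem_ppCore_of_hasNormalPComplement {H : Subgroup G} (h : HasNormalPComplement p H) {x : G}
    (hx : x ∈ H) (hc : (orderOf x).Coprime p) : x ∈ ppCore p H := by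
  refine ⟨⟨x, hx⟩, ?_, rfl⟩
  rw [SetLike.mem_coe, ← pResidual_eq_pPrimeCore h]
  exact mem_pResidual_of_coprime (by rwa [← orderOf_coe])

theorem le_ppCore_of_hasNormalPComplement {H Y : Subgroup G} (h : HasNormalPComplement p H)
    (hY : Y ≤ H) (hc : (Nat.card Y).Coprime p) : Y ≤ ppCore p H := fun _ hy =>
  mem_ppCore_of_hasNormalPComplement h (hY hy) (coprime_orderOf_of_mem hc hy)

theorem PQuasi.not_le_of_hasNormalPComplement {K H : Subgroup G} (hK : PQuasi p K)
    (h : HasNormalPComplement p H) : ¬ K ≤ H := fun hle =>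
  hK.not_le_of_coprime (coprime_card_ppCore H)
    (PLoc.le_of_perfect_of_forall_coprime (p := p) hK.commutator_eq fun _ hx hc =>
      mem_ppCore_of_hasNormalPComplement h (hle hx) hc)

theorem PCompIn.subgroupOf {K C H : Subgroup G} (h : PCompIn p K C) (hC : C ≤ H) :
    PCompIn p (K.subgroupOf H) (C.subgroupOf H) :=
  pCompIn_iff.2 ⟨comap_mono h.le, h.isSubnormal.comap (subgroupOfEquivOfLe hC).toMonoidHom,
    (pQuasi_subgroupOf (h.le.trans hC)).2 h.pQuasi⟩

/-- A `p`-component of `C ≥ C(P)` centralised by `P` modulo a normal `p'`-subgroup `O` is covered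
by `L_{p'}(C(P))`. -/
theorem PCompIn.le_pLayerIn_centralizer_sup {O P C K : Subgroup G} [O.Normal]
    (hO : (Nat.card O).Coprime p) (hP : IsPGroup p P) (hK : PCompIn p K C)
    (hC : centralizer (P : Set G) ≤ C) (h : ⁅K, P⁆ ≤ O) :
    K ≤ pLayerIn p (centralizer (P : Set G)) ⊔ O := by
  let f := QuotientGroup.mk' O
  have hk : (Nat.card f.ker).Coprime p := coprime_card_ker_mk' hO
  have h1 : K.map f ≤ (centralizer (P : Set G)).map f := by
    rw [PL.map_centralizer_eq f (QuotientGroup.mk'_surjective O) hk hP,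
      ← commutator_eq_bot_iff_le_centralizer, ← map_commutator, Subgroup.map_eq_bot_iff,
      QuotientGroup.ker_mk']
    exact h
  have h2 := ((hK.map_of_coprime hk).of_le h1 (map_mono hC)).le_pLayerIn
  rw [← map_pLayerIn (coprime_card_of_le inf_le_left hk), map_le_iff_le_comap, comap_map_eq,
    QuotientGroup.ker_mk'] at h2
  exact h2

theorem le_of_pLayerIn_step_aux {R U N K : Subgroup G} [R.Normal] [hN : N.Normal]
    (hRU : IsPGroup p (R ⊔ U : Subgroup G)) (hUN : U ≤ N)
    (hK : PCompIn p K (centralizer (R : Set G)))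
    (ih : pLayerIn p (centralizer ((R ⊔ U : Subgroup G) : Set G)) ≤ N) : K ≤ N := by
  set C := centralizer (R : Set G) with hC
  have hO : (ppCore p C).Normal := by
    rw [← normalizer_eq_top_iff, eq_top_iff]
    exact le_trans (by rw [normalizer_eq_top]) (normalizer_le_normalizer_ppCore C)
  rcases hK.le_or_commutator_le (H := N ⊓ C) inf_le_right
    (Normal.isSubnormal inferInstance) with h | h
  · exact h.trans inf_le_left
  have h1 : ⁅K, U⁆ ≤ N ⊓ C := le_inf ((commutator_mono le_rfl hUN).trans (commutator_le_right _ _))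
    ((commutator_mono hK.le le_rfl).trans (commutator_le_left _ _))
  have h2 : ⁅⁅K, U⁆, K⁆ ≤ ppCore p C := by
    rw [commutator_comm]; exact (commutator_mono le_rfl h1).trans h
  have h3 : ⁅K, U⁆ ≤ ppCore p C := by
    have := Sig.commutator_commutator_le_of_rotate (A := K) (B := K) (C := U) h2
      (by rwa [commutator_comm U])
    rwa [hK.pQuasi.commutator_eq] at this
  have h4 : ⁅K, R ⊔ U⁆ ≤ ppCore p C := Sig.commutator_sup_right_le
    ((commutator_eq_bot_iff_le_centralizer.2 hK.le).le.trans bot_le) h3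
  have h5 := hK.le_pLayerIn_centralizer_sup (coprime_card_ppCore C) hRU
    (centralizer_le (le_sup_left : R ≤ R ⊔ U)) h4
  exact hK.pQuasi.le_of_le_sup (coprime_card_ppCore C) hN.isSubnormal
    (h5.trans (sup_le_sup_right ih _))

/-- The inductive step of L-balance. -/
theorem pLayerIn_step {R U N : Subgroup G} [hN : N.Normal]
    (hRU : IsPGroup p (R ⊔ U : Subgroup G)) (hUR : U ≤ normalizer (R : Set G)) (hUN : U ≤ N)
    (ih : pLayerIn p (centralizer ((R ⊔ U : Subgroup G) : Set G)) ≤ N) :
    pLayerIn p (centralizer (R : Set G)) ≤ N := by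
  refine pLayerIn_le_iff.2 fun K hK => ?_
  set H := normalizer (R : Set G) with hH
  have hRH : R ≤ H := le_normalizer
  have hCH : centralizer (R : Set G) ≤ H := centralizer_le_normalizer _
  have : (R.subgroupOf H).Normal := normal_subgroupOf_of_le_normalizer le_rfl
  have hs : R.subgroupOf H ⊔ U.subgroupOf H = (R ⊔ U).subgroupOf H :=
    (subgroupOf_sup hRH hUR).symm
  have h1 := le_of_pLayerIn_step_aux (p := p) (R := R.subgroupOf H) (U := U.subgroupOf H)
    (N := N.subgroupOf H) (K := K.subgroupOf H) (by rw [hs]; exact hRU.comap_subtype)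
    (comap_mono hUN) (by rw [centralizer_subgroupOf_eq hRH]; exact hK.subgroupOf hCH)
    (by
      rw [hs, centralizer_subgroupOf_eq (sup_le hRH hUR), ← subgroupOf_pLayerIn
        ((centralizer_le (le_sup_left : R ≤ R ⊔ U)).trans hCH)]
      exact comap_mono ih)
  exact fun x hx => h1 (show (⟨x, hCH (hK.le hx)⟩ : H) ∈ K.subgroupOf H from hx)

/-- The inductive step of core balance. -/
theorem ppCore_step {R U N M : Subgroup G} [hN : N.Normal]
    (hU : IsPGroup p U) (hUR : U ≤ normalizer (R : Set G)) (hUN : U ≤ N)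
    (hNM : ∀ x ∈ N, (orderOf x).Coprime p → x ∈ M)
    (ih : ppCore p (centralizer ((R ⊔ U : Subgroup G) : Set G)) ≤ M) :
    ppCore p (centralizer (R : Set G)) ≤ M := by
  set Y := ppCore p (centralizer (R : Set G)) with hY
  have hUY : U ≤ normalizer (Y : Set G) :=
    (hUR.trans (normalizer_le_normalizer_centralizer R)).trans (normalizer_le_normalizer_ppCore _)
  have hc : (Nat.card Y).Coprime p := coprime_card_ppCore _
  have hs : Group.IsSolvable U := have := hU.isNilpotent; inferInstance
  rw [← coprime_commutator_sup_centralizer hUY (PLoc.coprime_card_of_isPGroup hU hc) (Or.inl hs)]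
  refine sup_le (fun x hx => hNM x ?_ ?_) (le_trans ?_ ih)
  · exact ((commutator_mono le_rfl hUN).trans (commutator_le_right _ _)) hx
  · exact coprime_orderOf_of_mem hc (le_normalizer_iff_commutator_le_left.1 hUY hx)
  · refine le_trans ?_ (ppCore_inf_le (centralizer_le (le_sup_left : R ≤ R ⊔ U)))
    rw [centralizer_sup_eq]
    exact le_inf inf_le_left (inf_le_inf_right _ (ppCore_le _))

/-- Downward induction on `p`-subgroups, enlarging them inside a normal subgroup `N`. -/
theorem pSubgroup_induction (N : Subgroup G) [N.Normal] {P : Subgroup G → Prop}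
    (base : ∀ R Q : Subgroup G, IsPGroup p R → IsSylowIn p Q N → Q ≤ R → P R)
    (step : ∀ R U : Subgroup G, IsPGroup p (R ⊔ U : Subgroup G) → U ≤ normalizer (R : Set G) → U ≤ N →
      P (R ⊔ U) → P R) (R : Subgroup G) (hR : IsPGroup p R) : P R := by
  induction R using WellFoundedGT.induction with
  | ind R ih =>
  obtain ⟨S, hRS⟩ := hR.exists_le_sylow
  have hQ := isSylowIn_inf_normal S N
  by_cases hQR : (S : Subgroup G) ⊓ N ≤ R
  · exact base R _ hR hQ hQR
  have h1 : R < (N ⊔ R) ⊓ S := lt_of_le_of_ne (le_inf le_sup_right hRS) fun h =>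
    hQR (h ▸ le_inf (inf_le_right.trans le_sup_left) inf_le_left)
  obtain ⟨x, ⟨⟨hx1, hx2⟩, hx3⟩, hxR⟩ :=
    SetLike.exists_of_lt (lt_inf_normalizer S.isPGroup'.to_inf_right h1)
  obtain ⟨n, hn, r, hr, rfl⟩ := mem_sup_of_normal_left.1 hx1
  have hle : R ⊔ ((S : Subgroup G) ⊓ N ⊓ normalizer (R : Set G)) ≤ S :=
    sup_le hRS (inf_le_left.trans inf_le_left)
  refine step R ((S : Subgroup G) ⊓ N ⊓ normalizer (R : Set G)) (S.isPGroup'.to_le hle)
    inf_le_right (inf_le_left.trans inf_le_right) (ih _ ?_ (S.isPGroup'.to_le hle))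
  refine lt_of_le_of_ne le_sup_left fun h => hxR (R.mul_mem ?_ hr)
  rw [h]
  exact mem_sup_right ⟨⟨(mul_mem_cancel_right (hRS hr)).1 hx2, hn⟩,
    (mul_mem_cancel_right (le_normalizer hr)).1 hx3⟩

theorem pLayerIn_centralizer_le_of_normal (N : Subgroup G) [N.Normal]
    (h : ∀ Q, IsSylowIn p Q N → HasNormalPComplement p (centralizer (Q : Set G)))
    {R : Subgroup G} (hR : IsPGroup p R) : pLayerIn p (centralizer (R : Set G)) ≤ N :=
  pSubgroup_induction (p := p) N (P := fun R => pLayerIn p (centralizer (R : Set G)) ≤ N)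
    (fun _ Q _ hQ hQR => pLayerIn_le_iff.2 fun _ hK => absurd (hK.le.trans (centralizer_le hQR))
      (hK.pQuasi.not_le_of_hasNormalPComplement (h Q hQ)))
    (fun _ _ h1 h2 h3 ih => pLayerIn_step h1 h2 h3 ih) R hR

theorem ppCore_centralizer_le_of_normal (N : Subgroup G) [N.Normal] {M : Subgroup G}
    (h : ∀ Q, IsSylowIn p Q N → HasNormalPComplement p (centralizer (Q : Set G)))
    (hNM : ∀ x ∈ N, (orderOf x).Coprime p → x ∈ M)
    (hM : ∀ Q, IsSylowIn p Q N → ppCore p (centralizer (Q : Set G)) ≤ M)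
    {R : Subgroup G} (hR : IsPGroup p R) : ppCore p (centralizer (R : Set G)) ≤ M :=
  pSubgroup_induction (p := p) N (P := fun R => ppCore p (centralizer (R : Set G)) ≤ M)
    (fun _ Q _ hQ hQR => (le_ppCore_of_hasNormalPComplement (h Q hQ)
      ((ppCore_le _).trans (centralizer_le hQR)) (coprime_card_ppCore _)).trans (hM Q hQ))
    (fun _ _ h1 h2 h3 ih => ppCore_step (h1.to_le le_sup_right) h2 h3 hNM ih) R hR

theorem mem_layer_of_mem_genFitting (hO : pPrimeCore p G = ⊥) {x : G}
    (hx : x ∈ generalizedFittingSubgroup G) (hc : (orderOf x).Coprime p) : x ∈ layer G := by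
  have := layer_normal' (G := G)
  rw [generalizedFittingSubgroup, PLoc.fitting_eq_pCore hO] at hx
  exact mem_of_mem_sup_of_coprime isPGroup_pCore' hx hc

theorem pPrimePCore_eq_pCore (hO : pPrimeCore p G = ⊥) : pPrimePCore p G = pCore p G := by
  obtain ⟨k, hk⟩ := exists_relIndex_pPrimePCore (p := p) (G := G)
  rw [hO, relIndex_bot_left] at hk
  refine le_antisymm (PLoc.le_pCore pPrimePCore_normal' (IsPGroup.of_card hk)) ?_
  exact map_le_iff_le_comap.1 (PLoc.map_pCore_le modCore_surjective)

theorem pLayer_sup_pPrimePCore_eq (hO : pPrimeCore p G = ⊥) :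
    pLayer p G ⊔ pPrimePCore p G = generalizedFittingSubgroup G := by
  rw [pLayer_eq_layer hO, pPrimePCore_eq_pCore hO, generalizedFittingSubgroup,
    PLoc.fitting_eq_pCore hO]

theorem map_pLayer_sup_pPrimePCore :
    (pLayer p G ⊔ pPrimePCore p G).map (modCore p G) =
      generalizedFittingSubgroup (G ⧸ pPrimeCore p G) := by
  rw [Subgroup.map_sup, map_pLayer_modCore, pPrimePCore,
    map_comap_eq_self_of_surjective modCore_surjective, generalizedFittingSubgroup,
    PLoc.fitting_eq_pCore pPrimeCore_quotient_eq_bot]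

/-- L-balance, given that centralisers of Sylow `p`-subgroups of `F*(G / O_{p'}(G))` are
`p`-nilpotent. -/
theorem pLayerIn_centralizer_le_pLayer_of
    (h : ∀ Q : Subgroup (G ⧸ pPrimeCore p G), IsSylowIn p Q (generalizedFittingSubgroup _) →
      HasNormalPComplement p (centralizer (Q : Set (G ⧸ pPrimeCore p G))))
    {R : Subgroup G} (hR : IsPGroup p R) :
    pLayerIn p (centralizer (R : Set G)) ≤ pLayer p G := by
  have hk : (Nat.card (modCore p G).ker).Coprime p := by
    rw [ker_modCore]; exact coprime_card_pPrimeCore'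
  have := Sig.genFitting_normal (G := G ⧸ pPrimeCore p G)
  have h1 := pLayerIn_centralizer_le_of_normal _ h (hR.map (modCore p G))
  have h2 := PLoc.le_of_perfect_of_forall_coprime (p := p) (commutator_pLayerIn (p := p) _)
    fun x hx hc => mem_layer_of_mem_genFitting pPrimeCore_quotient_eq_bot (h1 hx) hc
  rw [← PL.map_centralizer_eq _ modCore_surjective hk hR,
    ← map_pLayerIn (coprime_card_of_le inf_le_left hk), map_le_iff_le_comap,
    comap_layer_modCore] at h2
  rw [← pGen_pLayerIn]
  exact pGen_le_of_le_sup coprime_card_pPrimeCore' pLayer_normal.isSubnormal.subgroupOf h2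

theorem map_extendedTwoLayer_modCore :
    (extendedTwoLayer G).map (modCore 2 G) = extendedTwoLayer (G ⧸ pPrimeCore 2 G) := by
  obtain ⟨T, hT⟩ := exists_isSylowIn (p := 2) (pLayer 2 G ⊔ pPrimePCore 2 G)
  have hk : (Nat.card (modCore 2 G).ker).Coprime 2 := by
    rw [ker_modCore]; exact coprime_card_pPrimeCore'
  have h1 := hT.map (modCore 2 G)
  rw [map_pLayer_sup_pPrimePCore, ← pLayer_sup_pPrimePCore_eq pPrimeCore_quotient_eq_bot] at h1
  rw [extendedTwoLayer_eq hT, extendedTwoLayer_eq h1, Subgroup.map_sup, Subgroup.map_sup,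
    map_pLayer_of_coprime modCore_surjective hk, map_pPrimeCore modCore_surjective hk,
    map_ppCore (coprime_card_of_le inf_le_left hk),
    PL.map_centralizer_eq _ modCore_surjective hk hT.isPGroup]

/-- Core balance, given that centralisers of Sylow `2`-subgroups of `F*(G / O(G))` are
`2`-nilpotent. -/
theorem ppCore_centralizer_le_extendedTwoLayer_of
    (h : ∀ Q : Subgroup (G ⧸ pPrimeCore 2 G), IsSylowIn 2 Q (generalizedFittingSubgroup _) →
      HasNormalPComplement 2 (centralizer (Q : Set (G ⧸ pPrimeCore 2 G))))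
    {R : Subgroup G} (hR : IsPGroup 2 R) :
    ppCore 2 (centralizer (R : Set G)) ≤ extendedTwoLayer G := by
  have hk : (Nat.card (modCore 2 G).ker).Coprime 2 := by
    rw [ker_modCore]; exact coprime_card_pPrimeCore'
  have := Sig.genFitting_normal (G := G ⧸ pPrimeCore 2 G)
  have h1 := ppCore_centralizer_le_of_normal _ (M := extendedTwoLayer _) h
    (fun x hx hc => pLayer_le_extendedTwoLayer (by
      rw [pLayer_eq_layer pPrimeCore_quotient_eq_bot]
      exact mem_layer_of_mem_genFitting pPrimeCore_quotient_eq_bot hx hc))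
    (fun Q hQ => by
      rw [← pLayer_sup_pPrimePCore_eq (p := 2) pPrimeCore_quotient_eq_bot] at hQ
      rw [extendedTwoLayer_eq hQ]; exact le_sup_right) (hR.map (modCore 2 G))
  rw [← PL.map_centralizer_eq _ modCore_surjective hk hR,
    ← map_ppCore (coprime_card_of_le inf_le_left hk), ← map_extendedTwoLayer_modCore,
    map_le_iff_le_comap, comap_map_modCore, sup_eq_left.2 pPrimeCore_le_extendedTwoLayer] at h1
  exact h1

end CL.PComp
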