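import Cfsg.Agent.PComp.QS

/-!
# `p`-components

`PQuasi p K` is the intrinsic condition: `K = O^{p'}(K)` and `K / O_{p'}(K)` is quasisimple.
A `p`-component is a subnormal subgroup with `PQuasi p K` (`isPComponent_iff`).
-/

set_option autoImplicit false

open Cfsg Subgroup
open scoped Pointwise commutatorElement

namespace CL.PComp

open CL.Transfer

variable {G : Type*} [Group G] {p : ℕ}

/-- `K = O^{p'}(K)` and `K / O_{p'}(K)` is quasisimple. -/
structure PQuasi (p : ℕ) (K : Subgroup G) : Prop where
  pGen_eq : pGen p K = K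
  quasi : IsQuasisimple (K ⧸ pPrimeCore p K)

/-- The quotient map `G → G / O_{p'}(G)`. -/
abbrev modCore (p : ℕ) (G : Type*) [Group G] : G →* G ⧸ pPrimeCore p G :=
  QuotientGroup.mk' (pPrimeCore p G)

theorem modCore_surjective : Function.Surjective (modCore p G) := QuotientGroup.mk'_surjective _

theorem ker_modCore : (modCore p G).ker = pPrimeCore p G := QuotientGroup.ker_mk' _

theorem comap_map_modCore (K : Subgroup G) :
    (K.map (modCore p G)).comap (modCore p G) = K ⊔ pPrimeCore p G := by
  rw [comap_map_eq, ker_modCore]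

theorem map_modCore_eq_bot_iff {K : Subgroup G} :
    K.map (modCore p G) = ⊥ ↔ K ≤ pPrimeCore p G := by
  rw [Subgroup.map_eq_bot_iff, ker_modCore]

theorem nonempty_quotient_equiv_map {G' : Type*} [Group G'] (f : G →* G') {K : Subgroup G}
    (h : f.ker ⊓ K = ppCore p K) : Nonempty (K ⧸ pPrimeCore p K ≃* K.map f) := by
  have h1 : (f.subgroupMap K).ker = pPrimeCore p K := by
    rw [← subgroupOf_ppCore_self, ← h]
    ext x; simp [MonoidHom.mem_ker, mem_subgroupOf, Subtype.ext_iff]
  exact ⟨(QuotientGroup.quotientMulEquivOfEq h1.symm).trans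
    (QuotientGroup.quotientKerEquivOfSurjective _ (f.subgroupMap_surjective K))⟩

theorem quasisimple_quotient_iff_map {G' : Type*} [Group G'] (f : G →* G') {K : Subgroup G}
    (h : f.ker ⊓ K = ppCore p K) :
    IsQuasisimple (K ⧸ pPrimeCore p K) ↔ IsQuasisimple (K.map f) :=
  let ⟨e⟩ := nonempty_quotient_equiv_map f h
  quasisimple_congr e

theorem quasisimple_quotient_core_congr {G' : Type*} [Group G'] (e : G ≃* G') :
    IsQuasisimple (G ⧸ pPrimeCore p G) ↔ IsQuasisimple (G' ⧸ pPrimeCore p G') :=
  quasisimple_congr (QuotientGroup.congr _ _ e (map_pPrimeCore_equiv e))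

theorem pQuasi_map_of_injective {G' : Type*} [Group G'] {f : G →* G'}
    (hf : Function.Injective f) {K : Subgroup G} : PQuasi p (K.map f) ↔ PQuasi p K := by
  have h1 : pGen p (K.map f) = K.map f ↔ pGen p K = K := by
    rw [← map_pGen_of_injective hf, map_injective hf |>.eq_iff]
  have h2 := quasisimple_quotient_core_congr (p := p) (K.equivMapOfInjective f hf)
  exact ⟨fun h => ⟨h1.1 h.1, h2.2 h.2⟩, fun h => ⟨h1.2 h.1, h2.1 h.2⟩⟩

theorem pQuasi_subgroupOf {K H : Subgroup G} (h : K ≤ H) :
    PQuasi p (K.subgroupOf H) ↔ PQuasi p K := by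
  rw [← pQuasi_map_of_injective H.subtype_injective, map_subgroupOf_eq_of_le h]

theorem PQuasi.conj_smul {K : Subgroup G} (h : PQuasi p K) (g : G) :
    PQuasi p (MulAut.conj g • K) :=
  (pQuasi_map_of_injective (f := (MulAut.conj g).toMonoidHom) (MulAut.conj g).injective).2 h

theorem PQuasi.not_le_ppCore {K : Subgroup G} (h : PQuasi p K) : ¬ K ≤ ppCore p K := by
  intro h1
  have h2 : pPrimeCore p K = ⊤ := by
    rw [← subgroupOf_ppCore_self, subgroupOf_eq_top]; exact h1
  have := quasisimple_nontrivial h.2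
  have : Subsingleton (K ⧸ pPrimeCore p K) := by
    rw [h2]; exact QuotientGroup.subsingleton_quotient_top
  exact false_of_nontrivial_of_subsingleton (K ⧸ pPrimeCore p K)

theorem PQuasi.ne_bot {K : Subgroup G} (h : PQuasi p K) : K ≠ ⊥ := by
  rintro rfl
  exact h.not_le_ppCore bot_le

variable [Finite G]

theorem PQuasi.not_coprime {K : Subgroup G} (h : PQuasi p K) : ¬ (Nat.card K).Coprime p :=
  fun h1 => h.not_le_ppCore (ppCore_eq_self_iff.2 h1).ge

theorem PQuasi.dvd_card [hp : Fact p.Prime] {K : Subgroup G} (h : PQuasi p K) :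
    p ∣ Nat.card K := by
  by_contra h1
  exact h.not_coprime ((Nat.Prime.coprime_iff_not_dvd hp.out).2 h1).symm

theorem PQuasi.not_le_of_coprime {K N : Subgroup G} (h : PQuasi p K)
    (hN : (Nat.card N).Coprime p) : ¬ K ≤ N :=
  fun h1 => h.not_coprime (coprime_card_of_le h1 hN)

/-- A subgroup of `K` subnormal in `K` and covering `K / O_{p'}(K)` is `K`. -/
theorem PQuasi.eq_of_le_sup {K H : Subgroup G} (h : PQuasi p K) (hle : H ≤ K)
    (hH : (H.subgroupOf K).IsSubnormal) (hs : K ≤ H ⊔ ppCore p K) : H = K := by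
  refine le_antisymm hle ?_
  have h1 : pGen p (⊤ : Subgroup K) ≤ H.subgroupOf K := by
    refine pGen_le_of_le_sup (N := pPrimeCore p K) coprime_card_pPrimeCore' hH.subgroupOf ?_
    rw [← map_subtype_le_map_subtype, Subgroup.map_sup, map_subgroupOf_eq_of_le hle,
      ← MonoidHom.range_eq_map, range_subtype]
    exact hs
  have h2 := map_mono (f := K.subtype) h1
  rwa [map_subtype_pGen_top, h.1, map_subgroupOf_eq_of_le hle] at h2

/-- A subgroup subnormal in `K` is `K`, or is central modulo `O_{p'}(K)`. -/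
theorem PQuasi.eq_or_commutator_le {K H : Subgroup G} (h : PQuasi p K) (hle : H ≤ K)
    (hH : (H.subgroupOf K).IsSubnormal) : H = K ∨ ⁅H, K⁆ ≤ ppCore p K := by
  rcases Cfsg.Agent.S1259.result h.2 _ (hH.map (modCore_surjective (p := p))) with h1 | h1
  · left
    refine h.eq_of_le_sup hle hH ?_
    have h2 := congrArg (fun S => (comap (modCore p K) S).map K.subtype) h1
    simp only [comap_map_modCore, comap_top, Subgroup.map_sup, map_subgroupOf_eq_of_le hle,
      ← MonoidHom.range_eq_map, range_subtype] at h2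
    exact h2.ge
  · right
    rw [commutator_le]
    intro x hx k hk
    refine ⟨⁅(⟨x, hle hx⟩ : K), ⟨k, hk⟩⁆, ?_, rfl⟩
    rw [SetLike.mem_coe, ← ker_modCore, MonoidHom.mem_ker, map_commutatorElement,
      commutatorElement_eq_one_iff_mul_comm]
    exact (mem_center_iff.1 (h1 (mem_map_of_mem _ (show (⟨x, hle hx⟩ : K) ∈ H.subgroupOf K
      from hx))) _).symm

theorem PQuasi.commutator_eq {K : Subgroup G} (h : PQuasi p K) : ⁅K, K⁆ = K := by
  have he : (⁅K, K⁆).subgroupOf K = commutator K := by
    rw [← map_subtype_commutator, subgroupOf, comap_map_eq_self_of_injective K.subtype_injective]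
  refine h.eq_of_le_sup (commutator_le_self K) (he ▸ Normal.isSubnormal inferInstance) ?_
  have h1 : (commutator K).map (modCore p K) = ⊤ := by
    rw [_root_.commutator_def, map_commutator, map_top_of_surjective _ modCore_surjective]
    exact h.2.1.commutator_eq_top
  have h2 := congrArg (fun S => (comap (modCore p K) S).map K.subtype) h1
  simp only [comap_map_modCore, comap_top, Subgroup.map_sup, map_subtype_commutator,
    ← MonoidHom.range_eq_map, range_subtype] at h2
  exact h2.ge

theorem PQuasi.isPerfect {K : Subgroup G} (h : PQuasi p K) : Group.IsPerfect K :=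
  isPerfect_iff.2 h.commutator_eq

theorem PQuasi.not_commutator_le {K : Subgroup G} (h : PQuasi p K) :
    ¬ ⁅K, K⁆ ≤ ppCore p K := by
  rw [h.commutator_eq]; exact h.not_le_ppCore

theorem PQuasi.not_isSolvable {K : Subgroup G} (h : PQuasi p K) : ¬ Group.IsSolvable K := by
  have := h.isPerfect
  have := (nontrivial_iff_ne_bot K).2 h.ne_bot
  exact Group.IsPerfect.not_isSolvable K

/-- A quasisimple group of order divisible by `p` is `PQuasi`. -/
theorem pQuasi_of_quasisimple [hp : Fact p.Prime] {K : Subgroup G} (h : IsQuasisimple K)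
    (hd : p ∣ Nat.card K) : PQuasi p K := by
  refine ⟨pGen_eq_self_of_quasisimple h hd, ?_⟩
  have := h.1
  rcases quasisimple_normal h (pPrimeCore p K) with h1 | h1
  · have h2 := coprime_card_pPrimeCore' (p := p) (G := K)
    rw [h1, card_top] at h2
    exact absurd hd ((Nat.Prime.coprime_iff_not_dvd hp.out).1 h2.symm)
  · exact (quasisimple_iff_of_ker_le_center modCore_surjective (ker_modCore.trans_le h1)).1 h

/-- `K` is quasisimple iff it centralises `O_{p'}(K)`. -/
theorem PQuasi.quasisimple_iff {K : Subgroup G} (h : PQuasi p K) :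
    IsQuasisimple K ↔ ⁅K, ppCore p K⁆ = ⊥ := by
  have := h.isPerfect
  constructor
  · intro hq
    rcases quasisimple_le_normalizer hq (ppCore_le K) (le_normalizer_ppCore (p := p) K)
      with h1 | h1
    · exact absurd h1.ge h.not_le_ppCore
    · rw [commutator_comm]; exact commutator_eq_bot_iff_le_centralizer.2 h1
  · intro hc
    refine (quasisimple_iff_of_ker_le_center modCore_surjective (ker_modCore.trans_le ?_)).2 h.2
    intro x hx
    rw [commutator_comm, commutator_eq_bot_iff_le_centralizer] at hc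
    exact mem_center_iff.2 fun k =>
      Subtype.ext (mem_centralizer_iff.1 (hc (mem_map_of_mem _ hx)) k k.2)

/-- The image of a `PQuasi` subgroup is trivial or `PQuasi`. -/
theorem PQuasi.map [hp : Fact p.Prime] {G' : Type*} [Group G'] (f : G →* G') {K : Subgroup G}
    (h : PQuasi p K) : K.map f = ⊥ ∨ PQuasi p (K.map f) := by
  have hg : pGen p (K.map f) = K.map f := by rw [← map_pGen, h.1]
  have hs := f.subgroupMap_surjective K
  let φ : K ⧸ pPrimeCore p K →* (K.map f) ⧸ pPrimeCore p (K.map f) :=
    QuotientGroup.map _ _ (f.subgroupMap K) (map_le_iff_le_comap.1 (map_pPrimeCore_le hs))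
  have hφ : Function.Surjective φ :=
    QuotientGroup.map_surjective_of_surjective _ _ _ (modCore_surjective.comp hs) _
  have hq : IsQuasisimple (⊤ : Subgroup (K ⧸ pPrimeCore p K)) :=
    quasisimple_of_equiv h.2 topEquiv.symm
  have : Finite (K.map f) := Finite.of_surjective _ hs
  rcases quasisimple_map φ hq with h1 | h1
  · left
    rw [map_top_of_surjective _ hφ] at h1
    have h2 : pPrimeCore p (K.map f) = ⊤ := by
      rw [eq_top_iff, ← map_modCore_eq_bot_iff, map_top_of_surjective _ modCore_surjective, h1]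
    have h3 := coprime_card_pPrimeCore' (p := p) (G := K.map f)
    rw [h2, card_top] at h3
    rw [← hg, eq_bot_iff, pGen_le_iff]
    intro x hx k hk
    exact eq_one_of_pow_eq_one_of_coprime hk
      (Nat.Coprime.coprime_dvd_left (Subgroup.orderOf_dvd_natCard _ hx) h3)
  · rw [map_top_of_surjective _ hφ] at h1
    exact Or.inr ⟨hg, quasisimple_of_equiv h1 topEquiv⟩

theorem PQuasi.map_of_not_le_ker [Fact p.Prime] {G' : Type*} [Group G'] {f : G →* G'}
    {K : Subgroup G} (h : PQuasi p K) (hk : ¬ K ≤ f.ker) : PQuasi p (K.map f) :=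
  (h.map f).resolve_left fun h1 => hk ((Subgroup.map_eq_bot_iff K).1 h1)

theorem PQuasi.map_of_coprime [Fact p.Prime] {G' : Type*} [Group G'] {f : G →* G'}
    {K : Subgroup G} (h : PQuasi p K) (hk : (Nat.card f.ker).Coprime p) : PQuasi p (K.map f) :=
  h.map_of_not_le_ker (h.not_le_of_coprime hk)

/-- If `f` has `p'`-kernel on `K`, `K = O^{p'}(K)` and `f(K)` is `PQuasi`, so is `K`. -/
theorem pQuasi_of_map {G' : Type*} [Group G'] {f : G →* G'} {K : Subgroup G}
    (hk : (Nat.card (f.ker ⊓ K : Subgroup G)).Coprime p) (hg : pGen p K = K)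
    (h : PQuasi p (K.map f)) : PQuasi p K := by
  refine ⟨hg, ?_⟩
  have hs := f.subgroupMap_surjective K
  have h1 : (f.subgroupMap K).ker = (f.ker ⊓ K).subgroupOf K := by
    ext x; simp [MonoidHom.mem_ker, mem_subgroupOf, Subtype.ext_iff]
  have h2 : ((modCore p (K.map f)).comp (f.subgroupMap K)).ker = pPrimeCore p K := by
    rw [← MonoidHom.comap_ker, ker_modCore, comap_pPrimeCore hs]
    rwa [h1, Nat.card_congr (subgroupOfEquivOfLe inf_le_right).toEquiv]
  exact quasisimple_of_equiv h.2 ((QuotientGroup.quotientMulEquivOfEq h2.symm).trans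
    (QuotientGroup.quotientKerEquivOfSurjective _ (modCore_surjective.comp hs))).symm

/-! ### `p`-components -/

theorem quasisimple_map_modCore_iff {K : Subgroup G} (hK : K.IsSubnormal) :
    IsQuasisimple (K.map (modCore p G)) ↔ IsQuasisimple (K ⧸ pPrimeCore p K) :=
  (quasisimple_quotient_iff_map _ (by rw [ker_modCore, ppCore_eq_inf hK])).symm

theorem pGen_le_of_map_modCore_le {H K : Subgroup G} (hH : H.IsSubnormal)
    (h : K.map (modCore p G) ≤ H.map (modCore p G)) : pGen p (K ⊔ pPrimeCore p G) ≤ H := by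
  refine pGen_le_of_le_sup coprime_card_pPrimeCore' hH.subgroupOf ?_
  rw [← comap_map_modCore, ← comap_map_modCore]
  exact comap_mono h

variable [hp : Fact p.Prime]

theorem map_pGen_comap_of_component {L : Subgroup (G ⧸ pPrimeCore p G)} (hL : IsComponent L) :
    (pGen p (L.comap (modCore p G))).map (modCore p G) = L := by
  rw [map_pGen, map_comap_eq_self_of_surjective modCore_surjective,
    pGen_eq_self_of_quasisimple hL.2 (dvd_card_of_component pPrimeCore_quotient_eq_bot hL)]

theorem isPComponent_iff {K : Subgroup G} : IsPComponent p K ↔ K.IsSubnormal ∧ PQuasi p K := by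
  constructor
  · rintro ⟨h1, h2, h3⟩
    refine ⟨h1, ?_, (quasisimple_map_modCore_iff h1).1 h2.2⟩
    refine h3 _ (pGen_isSubnormal h1) (pGen_le K) ?_
    rw [map_pGen,
      pGen_eq_self_of_quasisimple h2.2 (dvd_card_of_component pPrimeCore_quotient_eq_bot h2)]
  · rintro ⟨h1, h2⟩
    refine ⟨h1, ⟨h1.map modCore_surjective, (quasisimple_map_modCore_iff h1).2 h2.2⟩, ?_⟩
    intro H hH hle he
    refine le_antisymm hle ?_
    rw [← h2.1]
    exact (pGen_mono le_sup_left).trans (pGen_le_of_map_modCore_le hH he.ge)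

theorem pcomp_pQuasi {K : Subgroup G} (h : IsPComponent p K) : PQuasi p K :=
  (isPComponent_iff.1 h).2

theorem pcomp_eq_pGen_sup {K : Subgroup G} (h : IsPComponent p K) :
    pGen p (K ⊔ pPrimeCore p G) = K :=
  le_antisymm (pGen_le_of_map_modCore_le h.1 le_rfl)
    ((pcomp_pQuasi h).1.ge.trans (pGen_mono le_sup_left))

theorem pcomp_pGen_comap {L : Subgroup (G ⧸ pPrimeCore p G)} (hL : IsComponent L) :
    IsPComponent p (pGen p (L.comap (modCore p G))) := by
  have h1 := pGen_isSubnormal (p := p) (hL.1.comap (modCore p G))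
  refine isPComponent_iff.2 ⟨h1, pGen_pGen _, (quasisimple_map_modCore_iff h1).1 ?_⟩
  rw [map_pGen_comap_of_component hL]
  exact hL.2

theorem pcomp_eq_of_map_eq {K L : Subgroup G} (hK : IsPComponent p K) (hL : IsPComponent p L)
    (h : K.map (modCore p G) = L.map (modCore p G)) : K = L := by
  rw [← pcomp_eq_pGen_sup hK, ← pcomp_eq_pGen_sup hL, ← comap_map_modCore, h, comap_map_modCore]

omit [Finite G] hp in
theorem pcomp_le_pLayer {K : Subgroup G} (h : IsPComponent p K) : K ≤ pLayer p G := le_sSup h

theorem map_pLayer_modCore : (pLayer p G).map (modCore p G) = layer (G ⧸ pPrimeCore p G) := by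
  refine le_antisymm ?_ (sSup_le fun L hL => ?_)
  · rw [pLayer, (gc_map_comap _).l_sSup, iSup₂_le_iff]
    exact fun K hK => component_le_layer hK.2.1
  · rw [← map_pGen_comap_of_component hL]
    exact map_mono (pcomp_le_pLayer (pcomp_pGen_comap hL))

theorem comap_layer_modCore :
    (layer (G ⧸ pPrimeCore p G)).comap (modCore p G) = pLayer p G ⊔ pPrimeCore p G := by
  rw [← map_pLayer_modCore, comap_map_modCore]

/-- An element whose image normalises the image of a `p`-component normalises it. -/
theorem comap_normalizer_le_normalizer {K : Subgroup G} (h : IsPComponent p K) :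
    (normalizer ((K.map (modCore p G) : Subgroup _) : Set (G ⧸ pPrimeCore p G))).comap
      (modCore p G) ≤ normalizer (K : Set G) := by
  refine (le_normalizer_comap _).trans ?_
  have := normalizer_le_normalizer_pGen (p := p) (K ⊔ pPrimeCore p G)
  rwa [pcomp_eq_pGen_sup h, ← comap_map_modCore] at this

theorem pLayer_sup_le_normalizer {K : Subgroup G} (h : IsPComponent p K) :
    pLayer p G ⊔ pPrimeCore p G ≤ normalizer (K : Set G) := by
  rw [← comap_layer_modCore]
  exact (comap_mono (layer_le_normalizer h.2.1)).trans (comap_normalizer_le_normalizer h)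

theorem pLayer_le_normalizer {K : Subgroup G} (h : IsPComponent p K) :
    pLayer p G ≤ normalizer (K : Set G) :=
  le_sup_left.trans (pLayer_sup_le_normalizer h)

theorem pPrimeCore_le_normalizer {K : Subgroup G} (h : IsPComponent p K) :
    pPrimeCore p G ≤ normalizer (K : Set G) :=
  le_sup_right.trans (pLayer_sup_le_normalizer h)

theorem pGen_pLayer : pGen p (pLayer p G) = pLayer p G :=
  le_antisymm (pGen_le _) (sSup_le fun _ hK =>
    (pcomp_pQuasi hK).1.ge.trans (pGen_mono (pcomp_le_pLayer hK)))

end CL.PComp
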