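import Cfsg.Agent.PComp.Layer

/-!
# The extended 2-layer
-/

set_option autoImplicit false

open Cfsg Subgroup
open scoped Pointwise commutatorElement

namespace CL.PComp

open CL.Transfer

variable {G : Type*} [Group G] {p : ℕ}

theorem pPrimeCore_le_pPrimePCore : pPrimeCore p G ≤ pPrimePCore p G :=
  ker_modCore.ge.trans (ker_le_comap _ _)

theorem pPrimePCore_normal' : (pPrimePCore p G).Normal := Normal.comap inferInstance _

theorem conj_smul_le_sup_of_mem {M Y : Subgroup G} [hM : M.Normal] {m : G} (hm : m ∈ M) :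
    MulAut.conj m • Y ≤ M ⊔ Y := by
  rw [conj_smul_le_iff]
  intro y hy
  have : m * y * m⁻¹ = m * (y * m⁻¹ * y⁻¹) * y := by group
  rw [this]
  exact mul_mem_sup (M.mul_mem hm (hM.conj_mem _ (M.inv_mem hm) y)) hy

theorem isPGroup_pCore' : IsPGroup p (pCore p G) := by
  obtain ⟨P⟩ : Nonempty (Sylow p G) := inferInstance
  exact P.isPGroup'.to_le (sSup_le fun N hN => by
    have := hN.1
    exact hN.2.le_sylow_of_normal P)

theorem pLayer_le_extendedTwoLayer : pLayer 2 G ≤ extendedTwoLayer G :=
  le_sup_left.trans le_sup_left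

theorem pPrimeCore_le_extendedTwoLayer : pPrimeCore 2 G ≤ extendedTwoLayer G :=
  le_sup_right.trans le_sup_left

variable [Finite G]

theorem exists_relIndex_pPrimePCore [hp : Fact p.Prime] :
    ∃ k, (pPrimeCore p G).relIndex (pPrimePCore p G) = p ^ k := by
  obtain ⟨k, hk⟩ := IsPGroup.iff_card.1 (isPGroup_pCore' (p := p) (G := G ⧸ pPrimeCore p G))
  refine ⟨k, ?_⟩
  conv_lhs => rw [← ker_modCore (p := p) (G := G)]
  rw [ker_modCore, ← hk]
  conv_lhs => arg 1; rw [← ker_modCore (p := p) (G := G)]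
  rw [relIndex_ker, pPrimePCore, map_comap_eq_self_of_surjective modCore_surjective]

theorem pLayer_sup_pPrimePCore_normal [Fact p.Prime] :
    (pLayer p G ⊔ pPrimePCore p G).Normal :=
  have := pLayer_normal (p := p) (G := G)
  have := pPrimePCore_normal' (p := p) (G := G)
  inferInstance

theorem pLayer_sup_pPrimePCore_le [Fact p.Prime] {T : Subgroup G}
    (hT : IsSylowIn p T (pLayer p G ⊔ pPrimePCore p G)) :
    pLayer p G ⊔ pPrimePCore p G ≤ (pLayer p G ⊔ pPrimeCore p G) ⊔ T := by
  refine sup_le (le_sup_left.trans le_sup_left) ?_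
  have := pPrimePCore_normal' (p := p) (G := G)
  have h1 : IsSylowIn p (T ⊓ pPrimePCore p G) (pPrimePCore p G) :=
    hT.inf_normal le_sup_right (by rw [normalizer_eq_top]; exact le_top)
  obtain ⟨k, hk⟩ := exists_relIndex_pPrimePCore (p := p) (G := G)
  rw [← h1.sup_eq_of_relIndex_eq_pow pPrimeCore_le_pPrimePCore hk]
  exact sup_le (inf_le_left.trans le_sup_right) (le_sup_right.trans le_sup_left)

theorem extendedTwoLayer_eq {T : Subgroup G}
    (hT : IsSylowIn 2 T (pLayer 2 G ⊔ pPrimePCore 2 G)) :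
    extendedTwoLayer G = pLayer 2 G ⊔ pPrimeCore 2 G ⊔ ppCore 2 (centralizer (T : Set G)) := by
  refine le_antisymm (sup_le le_sup_left (iSup_le fun S => ?_)) (sup_le le_sup_left ?_)
  · obtain ⟨n, hn, hnT⟩ := hT.exists_conj (isSylowIn_map_subtype S)
    have := pLayer_normal (p := 2) (G := G)
    obtain ⟨m, hm, t, ht, rfl⟩ := mem_sup_of_normal_left.1 (pLayer_sup_pPrimePCore_le hT hn)
    rw [← conj_smul_conj_smul, conj_smul_eq_of_mem ht] at hnT
    change ppCore 2 _ ≤ _
    rw [← hnT, ← conj_smul_centralizer, ← conj_smul_ppCore]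
    exact conj_smul_le_sup_of_mem hm
  · refine le_trans ?_ le_sup_right
    refine le_trans ?_ (le_iSup _ hT.toSylow)
    rw [hT.map_toSylow]

theorem extendedTwoLayer_normal' : (extendedTwoLayer G).Normal := by
  obtain ⟨T, hT⟩ := exists_isSylowIn (p := 2) (pLayer 2 G ⊔ pPrimePCore 2 G)
  have := pLayer_normal (p := 2) (G := G)
  have := pLayer_sup_pPrimePCore_normal (p := 2) (G := G)
  rw [← normalizer_eq_top_iff, eq_top_iff]
  intro g _
  have h1 := extendedTwoLayer_eq (hT.smul_of_mem_normalizer (g := g)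
    (by rw [normalizer_eq_top]; trivial))
  rw [← conj_smul_eq_iff_mem_normalizer]
  conv_lhs => rw [extendedTwoLayer_eq hT]
  rw [h1, conj_smul_sup, conj_smul_ppCore, conj_smul_centralizer,
    conj_smul_eq_iff_mem_normalizer.2 (by rw [normalizer_eq_top]; trivial)]

/-- An element centralising a Sylow `p`-subgroup of a `p`-component `K` normalises `K`. -/
theorem mem_normalizer_of_centralizes_sylow [Fact p.Prime] {K Q : Subgroup G}
    (hK : IsPComponent p K) (hQ : IsSylowIn p Q K) {y : G} (hy : y ∈ centralizer (Q : Set G)) :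
    y ∈ normalizer (K : Set G) := by
  rw [← conj_smul_eq_iff_mem_normalizer]
  by_contra hne
  have hK' := pcomp_conj_smul hK y
  have h1 := (pcomp_commutator_le hK' hK hne).trans
    (inf_le_right.trans (ppCore_le_pPrimeCore hK.1))
  have h2 : Q ≤ MulAut.conj y • K := by
    rw [← conj_smul_eq_iff_mem_normalizer.2 (centralizer_le_normalizer _ hy)]
    exact conj_smul_mono y hQ.le
  refine not_le_centralizer_of_isSylowIn hK.2.1.2
    (dvd_card_of_component pPrimeCore_quotient_eq_bot hK.2.1) (hQ.map (modCore p G)) ?_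
  rw [← commutator_eq_bot_iff_le_centralizer, ← map_commutator, map_modCore_eq_bot_iff]
  exact (commutator_mono h2 le_rfl).trans h1

theorem centralizer_le_normalizer_pcomp [Fact p.Prime] {K T : Subgroup G} (hK : IsPComponent p K)
    (hT : IsSylowIn p T (pLayer p G ⊔ pPrimePCore p G)) :
    centralizer (T : Set G) ≤ normalizer (K : Set G) := by
  have := pLayer_normal (p := p) (G := G)
  have h1 : IsSylowIn p (T ⊓ pLayer p G) (pLayer p G) :=
    hT.inf_normal le_sup_left (by rw [normalizer_eq_top]; exact le_top)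
  have h2 := h1.inf_normal (pcomp_le_pLayer hK) (pLayer_le_normalizer hK)
  exact fun y hy => mem_normalizer_of_centralizes_sylow hK h2
    (centralizer_le (inf_le_left.trans inf_le_left : T ⊓ pLayer p G ⊓ K ≤ T) hy)

theorem extendedTwoLayer_le_normalizer {K : Subgroup G} (hK : IsPComponent 2 K) :
    extendedTwoLayer G ≤ normalizer (K : Set G) := by
  obtain ⟨T, hT⟩ := exists_isSylowIn (p := 2) (pLayer 2 G ⊔ pPrimePCore 2 G)
  rw [extendedTwoLayer_eq hT]
  exact sup_le (pLayer_sup_le_normalizer hK)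
    ((ppCore_le _).trans (centralizer_le_normalizer_pcomp hK hT))

end CL.PComp
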