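import Cfsg.Agent.PComp.Balance
import Cfsg.Agent.Invol.AutSylow
import Cfsg.Agent.Transfer.AbSylow

/-!
# L-balance and core balance for the prime 2

By Glauberman's theorem on automorphisms centralising a Sylow 2-subgroup, in a group with
`O(G) = 1` the centraliser of a Sylow 2-subgroup of `F*(G)` has a normal 2-complement.
-/

set_option autoImplicit false

open Cfsg Subgroup
open scoped Pointwise commutatorElement

namespace CL.PComp

open CL.Transfer

variable {G : Type*} [Group G] [Finite G]

/-- If `O(G) = 1` and `Q` is a Sylow 2-subgroup of `F*(G)` then `C_G(Q)` is 2-nilpotent. -/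
theorem hasNormalPComplement_centralizer_sylow_genFitting (hO : pPrimeCore 2 G = ⊥)
    {Q : Subgroup G} (hQ : IsSylowIn 2 Q (generalizedFittingSubgroup G)) :
    HasNormalPComplement 2 (centralizer (Q : Set G)) := by
  have hN := Sig.genFitting_normal (G := G)
  set N := generalizedFittingSubgroup G with hNdef
  set A := centralizer (Q : Set G) with hA
  obtain ⟨K, hK, -, -, hpow, htriv⟩ := AutSyl.exists_kernel (G := N)
    (fun M hM hodd => by
      have h1 : M.map N.subtype ≤ pPrimeCore 2 G := le_pPrimeCore_of_isSubnormal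
        (hM.isSubnormal.trans' hN.isSubnormal) (coprime_card_map _ (Nat.coprime_two_right.2 hodd))
      rw [hO, le_bot_iff, Subgroup.map_eq_bot_iff_of_injective _ N.subtype_injective] at h1
      exact h1)
    hQ.toSylow ((MulAut.conjNormal (H := N)).comp A.subtype)
    (fun a s hs => Subtype.ext (by
      have := mem_centralizer_iff.1 a.2 s hs
      change (a : G) * s * (a : G)⁻¹ = s
      rw [← this, mul_inv_cancel_right]))
  obtain ⟨j, hj⟩ := IsPGroup.iff_card.1 hQ.toSylow.isPGroup'
  refine hasNormalPComplement_of_pResidual_le (H := K)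
    (pResidual_le_of_isPGroup_quotient K fun x => ?_) ?_
  · obtain ⟨a, rfl⟩ := QuotientGroup.mk_surjective x
    refine ⟨j, ?_⟩
    rw [← QuotientGroup.mk_pow, QuotientGroup.eq_one_iff, ← hj]
    exact hpow a
  obtain ⟨P⟩ : Nonempty (Sylow 2 K) := inferInstance
  refine CL.Focal.hasNormalPComplement_of_normalizer_le_centralizer P fun g _ => ?_
  rw [mem_centralizer_iff]
  intro a ha
  obtain ⟨k, hk⟩ := P.isPGroup' ⟨a, ha⟩
  have hk1 : (a : A) ^ 2 ^ k = 1 := congrArg Subtype.val (congrArg Subtype.val hk)
  have h1 := htriv a a.2 k (by rw [← map_pow, hk1, map_one])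
  have h2 : ((a : A) : G) ∈ centralizer (N : Set G) := by
    rw [mem_centralizer_iff]
    intro n hn
    have := congrArg Subtype.val (DFunLike.congr_fun h1 ⟨n, hn⟩)
    change ((a : A) : G) * n * ((a : A) : G)⁻¹ = n at this
    rw [← this, inv_mul_cancel_right, this]
  have h3 := Sig.centralizer_genFitting_le_fitting h2
  rw [PLoc.fitting_eq_pCore hO] at h3
  have h4 : pCore 2 G ≤ Q := by
    have h5 : IsPGroup 2 (Q ⊔ pCore 2 G : Subgroup G) :=
      hQ.isPGroup.to_sup_of_normal_right isPGroup_pCore'
    rw [← hQ.eq_of_le h5 le_sup_left (sup_le hQ.le PLoc.pCore_le_genFitting)]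
    exact le_sup_right
  exact Subtype.ext (Subtype.ext (mem_centralizer_iff.1 (g : A).2 _ (h4 h3)))

/-- **L-balance**. -/
theorem pLayerIn_centralizer_le_pLayer {R : Subgroup G} (hR : IsPGroup 2 R) :
    pLayerIn 2 (centralizer (R : Set G)) ≤ pLayer 2 G :=
  pLayerIn_centralizer_le_pLayer_of (fun _ hQ =>
    hasNormalPComplement_centralizer_sylow_genFitting pPrimeCore_quotient_eq_bot hQ) hR

/-- **Core balance**. -/
theorem ppCore_centralizer_le_extendedTwoLayer {R : Subgroup G} (hR : IsPGroup 2 R) :
    ppCore 2 (centralizer (R : Set G)) ≤ extendedTwoLayer G :=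
  ppCore_centralizer_le_extendedTwoLayer_of (fun _ hQ =>
    hasNormalPComplement_centralizer_sylow_genFitting pPrimeCore_quotient_eq_bot hQ) hR

/-- L-balance in a subgroup `D`. -/
theorem pLayerIn_inf_centralizer_le {R D : Subgroup G} (hR : IsPGroup 2 R) (hRD : R ≤ D) :
    pLayerIn 2 (centralizer (R : Set G) ⊓ D) ≤ pLayerIn 2 D := by
  have := map_mono (f := D.subtype) (pLayerIn_centralizer_le_pLayer (hR.comap_subtype (K := D)))
  rwa [map_pLayerIn_of_injective D.subtype_injective, ← subgroupOf, centralizer_subgroupOf_eq hRD,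
    subgroupOf_map_subtype] at this

/-- Core balance in a subgroup `D`. -/
theorem ppCore_inf_centralizer_le {R D : Subgroup G} (hR : IsPGroup 2 R) (hRD : R ≤ D) :
    ppCore 2 (centralizer (R : Set G) ⊓ D) ≤ (extendedTwoLayer D).map D.subtype := by
  have := map_mono (f := D.subtype)
    (ppCore_centralizer_le_extendedTwoLayer (hR.comap_subtype (K := D)))
  rwa [map_ppCore_of_injective D.subtype_injective, ← subgroupOf, centralizer_subgroupOf_eq hRD,
    subgroupOf_map_subtype] at this

/-- `L*(H) ≤ L*(D)` for `H` normal in `C_D(R)`, `R` a 2-subgroup of `D`. -/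
theorem extendedTwoLayer_map_le {R D H : Subgroup G} (hR : IsPGroup 2 R) (hRD : R ≤ D)
    (hH : H ≤ centralizer (R : Set G) ⊓ D)
    (hn : centralizer (R : Set G) ⊓ D ≤ normalizer (H : Set G)) :
    (extendedTwoLayer H).map H.subtype ≤ (extendedTwoLayer D).map D.subtype := by
  obtain ⟨T, hT⟩ := exists_isSylowIn (p := 2) (pLayer 2 H ⊔ pPrimePCore 2 H)
  rw [extendedTwoLayer_eq hT, Subgroup.map_sup, Subgroup.map_sup]
  refine sup_le (sup_le ?_ ?_) ?_
  · exact ((pLayerIn_mono_of_le_normalizer hH hn).trans (pLayerIn_inf_centralizer_le hR hRD)).trans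
      (map_mono pLayer_le_extendedTwoLayer)
  · exact (ppCore_le_ppCore_of_le_normalizer hH hn).trans (ppCore_inf_centralizer_le hR hRD)
  set T' := T.map H.subtype with hT'
  have hTH : T' ≤ H := map_subtype_le _
  have h1 : T = T'.subgroupOf H := (comap_map_eq_self_of_injective H.subtype_injective T).symm
  have h2 : IsPGroup 2 (R ⊔ T' : Subgroup G) :=
    hR.to_sup_of_normal_left' (hT.isPGroup.map _)
      ((hTH.trans (hH.trans inf_le_left)).trans (centralizer_le_normalizer _))
  rw [map_ppCore_of_injective H.subtype_injective, h1, centralizer_subgroupOf_eq hTH,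
    subgroupOf_map_subtype]
  refine le_trans (ppCore_le_ppCore_of_le_normalizer ?_ ?_)
    (ppCore_inf_centralizer_le h2 (sup_le hRD (hTH.trans (hH.trans inf_le_right))))
  · rw [centralizer_sup_eq]
    exact le_inf (le_inf (inf_le_right.trans (hH.trans inf_le_left)) inf_le_left)
      (inf_le_right.trans (hH.trans inf_le_right))
  · rw [centralizer_sup_eq]
    exact le_trans (le_inf (inf_le_left.trans (inf_le_right.trans le_normalizer))
      ((inf_le_inf_right D inf_le_left).trans hn)) (normalizer_inf_le_normalizer_inf _ _)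

end CL.PComp
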