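import Cfsg.Agent.PComp.Basic

/-!
# The `p`-layer; `p`-components of subgroups and quotients

`PCompIn p K H`: `K` is a `p`-component of the subgroup `H` (both subgroups of the ambient group);
`pLayerIn p H` is `L_{p'}(H)` as a subgroup of the ambient group.
-/

set_option autoImplicit false

open Cfsg Subgroup
open scoped Pointwise commutatorElement

namespace CL.PComp

open CL.Transfer

variable {G : Type*} [Group G] {p : ℕ}

/-- `L_{p'}(H)` as a subgroup of the ambient group. -/
abbrev pLayerIn (p : ℕ) (H : Subgroup G) : Subgroup G := (pLayer p H).map H.subtype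

/-- `K` is a `p`-component of the subgroup `H`. -/
structure PCompIn (p : ℕ) (K H : Subgroup G) : Prop where
  le : K ≤ H
  pcomp : IsPComponent p (K.subgroupOf H)

theorem pLayerIn_le (H : Subgroup G) : pLayerIn p H ≤ H := map_subtype_le _

theorem pCompIn_map_subtype {H : Subgroup G} {K : Subgroup H} :
    PCompIn p (K.map H.subtype) H ↔ IsPComponent p K := by
  have : (K.map H.subtype).subgroupOf H = K :=
    comap_map_eq_self_of_injective H.subtype_injective K
  exact ⟨fun h => this ▸ h.2, fun h => ⟨map_subtype_le _, this.symm ▸ h⟩⟩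

theorem PCompIn.le_pLayerIn {K H : Subgroup G} (h : PCompIn p K H) : K ≤ pLayerIn p H := by
  rw [← map_subgroupOf_eq_of_le h.le]
  exact map_mono (pcomp_le_pLayer h.2)

theorem pLayerIn_le_iff {H M : Subgroup G} :
    pLayerIn p H ≤ M ↔ ∀ K, PCompIn p K H → K ≤ M := by
  refine ⟨fun h K hK => hK.le_pLayerIn.trans h, fun h => ?_⟩
  rw [pLayerIn, pLayer, (gc_map_comap _).l_sSup, iSup₂_le_iff]
  exact fun K hK => h _ (pCompIn_map_subtype.2 hK)

theorem pLayer_le_iff {M : Subgroup G} : pLayer p G ≤ M ↔ ∀ K, IsPComponent p K → K ≤ M :=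
  sSup_le_iff

theorem PCompIn.isSubnormal {K H : Subgroup G} (h : PCompIn p K H) :
    (K.subgroupOf H).IsSubnormal := h.2.1

/-- Subnormality in a subgroup is preserved by homomorphisms. -/
theorem isSubnormal_subgroupOf_map {G' : Type*} [Group G'] (f : G →* G') {K H : Subgroup G}
    (hle : K ≤ H) (h : (K.subgroupOf H).IsSubnormal) :
    ((K.map f).subgroupOf (H.map f)).IsSubnormal := by
  have h1 := h.map (f.subgroupMap_surjective H)
  convert h1 using 1
  rw [← map_subtype_inj, map_subgroupOf_eq_of_le (map_mono hle), map_map]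
  conv_lhs => rw [← map_subgroupOf_eq_of_le hle, map_map]
  rfl

theorem isSubnormal_subgroupOf_of_le {K H M : Subgroup G} (hHM : H ≤ M)
    (h : (K.subgroupOf M).IsSubnormal) : (K.subgroupOf H).IsSubnormal :=
  h.comap (inclusion hHM)

theorem isSubnormal_subgroupOf_trans {K H M : Subgroup G} (hKH : K ≤ H) (hHM : H ≤ M)
    (h1 : (K.subgroupOf H).IsSubnormal) (h2 : (H.subgroupOf M).IsSubnormal) :
    (K.subgroupOf M).IsSubnormal := by
  exact IsSubnormal.trans (comap_mono hKH) (h1.comap (subgroupOfEquivOfLe hHM).toMonoidHom) h2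

theorem isSubnormal_subgroupOf_top {K : Subgroup G} :
    (K.subgroupOf ⊤).IsSubnormal ↔ K.IsSubnormal :=
  ⟨fun h => h.trans le_top IsSubnormal.top, fun h => h.subgroupOf⟩

theorem isSubnormal_subgroupOf_of_le_normalizer {K H : Subgroup G}
    (h : H ≤ normalizer (K : Set G)) : (K.subgroupOf H).IsSubnormal :=
  (normal_subgroupOf_of_le_normalizer h).isSubnormal

variable [Finite G] [hp : Fact p.Prime]

theorem pCompIn_iff {K H : Subgroup G} :
    PCompIn p K H ↔ K ≤ H ∧ (K.subgroupOf H).IsSubnormal ∧ PQuasi p K :=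
  ⟨fun h => ⟨h.1, h.2.1, (pQuasi_subgroupOf h.1).1 (pcomp_pQuasi h.2)⟩,
    fun h => ⟨h.1, isPComponent_iff.2 ⟨h.2.1, (pQuasi_subgroupOf h.1).2 h.2.2⟩⟩⟩

theorem PCompIn.pQuasi {K H : Subgroup G} (h : PCompIn p K H) : PQuasi p K :=
  (pCompIn_iff.1 h).2.2

theorem pCompIn_top {K : Subgroup G} : PCompIn p K ⊤ ↔ IsPComponent p K := by
  rw [pCompIn_iff, isPComponent_iff, isSubnormal_subgroupOf_top]
  simp

theorem pLayerIn_top : pLayerIn p (⊤ : Subgroup G) = pLayer p G :=
  le_antisymm (pLayerIn_le_iff.2 fun _ hK => pcomp_le_pLayer (pCompIn_top.1 hK))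
    (pLayer_le_iff.2 fun _ hK => (pCompIn_top.2 hK).le_pLayerIn)

theorem pCompIn_of_pcomp {K H : Subgroup G} (h : IsPComponent p K) (hle : K ≤ H) :
    PCompIn p K H :=
  pCompIn_iff.2 ⟨hle, h.1.subgroupOf, pcomp_pQuasi h⟩

theorem PCompIn.pcomp_of_isSubnormal {K H : Subgroup G} (h : PCompIn p K H)
    (hH : H.IsSubnormal) : IsPComponent p K :=
  isPComponent_iff.2 ⟨h.isSubnormal.trans h.le hH, h.pQuasi⟩

theorem PCompIn.of_le {K H M : Subgroup G} (h : PCompIn p K M) (hKH : K ≤ H) (hHM : H ≤ M) :
    PCompIn p K H :=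
  pCompIn_iff.2 ⟨hKH, isSubnormal_subgroupOf_of_le hHM h.isSubnormal, h.pQuasi⟩

theorem PCompIn.trans {K H M : Subgroup G} (h : PCompIn p K H) (hHM : H ≤ M)
    (hH : (H.subgroupOf M).IsSubnormal) : PCompIn p K M :=
  pCompIn_iff.2 ⟨h.le.trans hHM, isSubnormal_subgroupOf_trans h.le hHM h.isSubnormal hH, h.pQuasi⟩

theorem pLayerIn_le_pLayer {H : Subgroup G} (hH : H.IsSubnormal) : pLayerIn p H ≤ pLayer p G :=
  pLayerIn_le_iff.2 fun _ hK => pcomp_le_pLayer (hK.pcomp_of_isSubnormal hH)

theorem pLayerIn_mono {H M : Subgroup G} (hHM : H ≤ M) (hH : (H.subgroupOf M).IsSubnormal) :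
    pLayerIn p H ≤ pLayerIn p M :=
  pLayerIn_le_iff.2 fun _ hK => (hK.trans hHM hH).le_pLayerIn

theorem pLayerIn_mono_of_le_normalizer {H M : Subgroup G} (hHM : H ≤ M)
    (hH : M ≤ normalizer (H : Set G)) : pLayerIn p H ≤ pLayerIn p M :=
  pLayerIn_mono hHM (isSubnormal_subgroupOf_of_le_normalizer hH)

/-- The image of a `p`-component of `H` is trivial or a `p`-component of the image of `H`. -/
theorem PCompIn.map {G' : Type*} [Group G'] [Finite G'] (f : G →* G') {K H : Subgroup G}
    (h : PCompIn p K H) : K.map f = ⊥ ∨ PCompIn p (K.map f) (H.map f) :=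
  (h.pQuasi.map f).imp id fun h1 =>
    pCompIn_iff.2 ⟨map_mono h.le, isSubnormal_subgroupOf_map f h.le h.isSubnormal, h1⟩

theorem PCompIn.map_of_coprime {G' : Type*} [Group G'] [Finite G'] {f : G →* G'}
    {K H : Subgroup G} (h : PCompIn p K H) (hk : (Nat.card f.ker).Coprime p) :
    PCompIn p (K.map f) (H.map f) :=
  (h.map f).resolve_left (h.pQuasi.map_of_coprime hk).ne_bot

theorem PCompIn.map_of_injective {G' : Type*} [Group G'] [Finite G'] {f : G →* G'}
    (hf : Function.Injective f) {K H : Subgroup G} (h : PCompIn p K H) :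
    PCompIn p (K.map f) (H.map f) :=
  h.map_of_coprime (by rw [(MonoidHom.ker_eq_bot_iff f).2 hf]; simp)

theorem PCompIn.conj_smul {K H : Subgroup G} (h : PCompIn p K H) (g : G) :
    PCompIn p (MulAut.conj g • K) (MulAut.conj g • H) :=
  h.map_of_injective (f := (MulAut.conj g).toMonoidHom) (MulAut.conj g).injective

theorem PCompIn.conj_smul_of_mem_normalizer {K H : Subgroup G} (h : PCompIn p K H) {g : G}
    (hg : g ∈ normalizer (H : Set G)) : PCompIn p (MulAut.conj g • K) H := by
  have := h.conj_smul g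
  rwa [conj_smul_eq_iff_mem_normalizer.2 hg] at this

theorem pcomp_map {G' : Type*} [Group G'] {f : G →* G'} (hf : Function.Surjective f)
    {K : Subgroup G} (h : IsPComponent p K) : K.map f = ⊥ ∨ IsPComponent p (K.map f) := by
  have := Finite.of_surjective f hf
  exact ((pcomp_pQuasi h).map f).imp id fun h1 => isPComponent_iff.2 ⟨h.1.map hf, h1⟩

theorem pcomp_conj_smul {K : Subgroup G} (h : IsPComponent p K) (g : G) :
    IsPComponent p (MulAut.conj g • K) :=
  isPComponent_iff.2 ⟨h.1.smul _, (pcomp_pQuasi h).conj_smul g⟩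

theorem map_pLayer_le {G' : Type*} [Group G'] {f : G →* G'} (hf : Function.Surjective f) :
    (pLayer p G).map f ≤ pLayer p G' := by
  rw [pLayer, (gc_map_comap _).l_sSup, iSup₂_le_iff]
  intro K hK
  rcases pcomp_map hf hK with h | h
  · exact h.le.trans bot_le
  · exact pcomp_le_pLayer h

theorem map_pLayerIn_le {G' : Type*} [Group G'] (f : G →* G') (H : Subgroup G) :
    (pLayerIn p H).map f ≤ pLayerIn p (H.map f) := by
  have : (H.map f).subtype.comp (f.subgroupMap H) = f.comp H.subtype := rfl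
  rw [pLayerIn, map_map, ← this, ← map_map]
  exact map_mono (map_pLayer_le (f.subgroupMap_surjective H))

theorem pLayer_characteristic : (pLayer p G).Characteristic :=
  characteristic_iff_map_le.2 fun f => map_pLayer_le f.surjective

theorem pLayer_normal : (pLayer p G).Normal :=
  have := pLayer_characteristic (p := p) (G := G)
  normal_of_characteristic _

theorem pLayer_eq_pGen :
    pLayer p G = pGen p ((layer (G ⧸ pPrimeCore p G)).comap (modCore p G)) := by
  rw [comap_layer_modCore]
  exact le_antisymm (pGen_pLayer.ge.trans (pGen_mono le_sup_left))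
    (pGen_le_of_le_sup coprime_card_pPrimeCore' pLayer_normal.isSubnormal.subgroupOf le_rfl)

/-- Every `p`-component of the image under a surjection with `p'`-kernel lifts. -/
theorem pcomp_pGen_comap_of_coprime {G' : Type*} [Group G'] {f : G →* G'}
    (hf : Function.Surjective f) (hk : (Nat.card f.ker).Coprime p) {L : Subgroup G'}
    (hL : IsPComponent p L) :
    IsPComponent p (pGen p (L.comap f)) ∧ (pGen p (L.comap f)).map f = L := by
  have := Finite.of_surjective f hf
  have h1 : (pGen p (L.comap f)).map f = L := by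
    rw [map_pGen, map_comap_eq_self_of_surjective hf, (pcomp_pQuasi hL).1]
  refine ⟨isPComponent_iff.2 ⟨pGen_isSubnormal (hL.1.comap f), ?_⟩, h1⟩
  exact pQuasi_of_map (f := f) (coprime_card_of_le inf_le_left hk) (pGen_pGen _)
    (h1.symm ▸ pcomp_pQuasi hL)

theorem map_pLayer_of_coprime {G' : Type*} [Group G'] {f : G →* G'}
    (hf : Function.Surjective f) (hk : (Nat.card f.ker).Coprime p) :
    (pLayer p G).map f = pLayer p G' := by
  refine le_antisymm (map_pLayer_le hf) (pLayer_le_iff.2 fun L hL => ?_)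
  obtain ⟨h1, h2⟩ := pcomp_pGen_comap_of_coprime hf hk hL
  rw [← h2]
  exact map_mono (pcomp_le_pLayer h1)

theorem map_pLayer_equiv {G' : Type*} [Group G'] (e : G ≃* G') :
    (pLayer p G).map e.toMonoidHom = pLayer p G' :=
  map_pLayer_of_coprime e.surjective
    (by rw [(MonoidHom.ker_eq_bot_iff e.toMonoidHom).2 e.injective]; simp)

theorem map_pLayerIn {G' : Type*} [Group G'] {f : G →* G'} {H : Subgroup G}
    (hk : (Nat.card (f.ker ⊓ H : Subgroup G)).Coprime p) :
    (pLayerIn p H).map f = pLayerIn p (H.map f) := by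
  have : (H.map f).subtype.comp (f.subgroupMap H) = f.comp H.subtype := rfl
  rw [pLayerIn, map_map, ← this, ← map_map, map_pLayer_of_coprime (f.subgroupMap_surjective H)]
  have h1 : (f.subgroupMap H).ker = (f.ker ⊓ H).subgroupOf H := by
    ext x; simp [MonoidHom.mem_ker, mem_subgroupOf, Subtype.ext_iff]
  rwa [h1, Nat.card_congr (subgroupOfEquivOfLe inf_le_right).toEquiv]

theorem map_pLayerIn_of_injective {G' : Type*} [Group G'] {f : G →* G'}
    (hf : Function.Injective f) (H : Subgroup G) :
    (pLayerIn p H).map f = pLayerIn p (H.map f) :=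
  map_pLayerIn (by rw [(MonoidHom.ker_eq_bot_iff f).2 hf]; simp)

theorem conj_smul_pLayerIn (g : G) (H : Subgroup G) :
    MulAut.conj g • pLayerIn p H = pLayerIn p (MulAut.conj g • H) :=
  map_pLayerIn_of_injective (f := (MulAut.conj g).toMonoidHom) (MulAut.conj g).injective H

theorem normalizer_le_normalizer_pLayerIn (H : Subgroup G) :
    normalizer (H : Set G) ≤ normalizer ((pLayerIn p H : Subgroup G) : Set G) := by
  intro g hg
  rw [← conj_smul_eq_iff_mem_normalizer] at hg ⊢
  rw [conj_smul_pLayerIn, hg]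

theorem le_normalizer_pLayerIn (H : Subgroup G) :
    H ≤ normalizer ((pLayerIn p H : Subgroup G) : Set G) :=
  le_normalizer.trans (normalizer_le_normalizer_pLayerIn H)

theorem subgroupOf_pLayerIn {H K : Subgroup G} (h : H ≤ K) :
    (pLayerIn p H).subgroupOf K = pLayerIn p (H.subgroupOf K) := by
  rw [← map_subtype_inj, map_pLayerIn_of_injective K.subtype_injective, map_subgroupOf_eq_of_le h,
    map_subgroupOf_eq_of_le ((pLayerIn_le H).trans h)]

theorem pGen_pLayerIn (H : Subgroup G) : pGen p (pLayerIn p H) = pLayerIn p H := by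
  rw [pLayerIn, ← map_pGen, pGen_pLayer]

theorem commutator_pLayer : ⁅pLayer p G, pLayer p G⁆ = pLayer p G :=
  le_antisymm (commutator_le_self _) (pLayer_le_iff.2 fun _ hK =>
    (pcomp_pQuasi hK).commutator_eq.ge.trans
      (commutator_mono (pcomp_le_pLayer hK) (pcomp_le_pLayer hK)))

theorem commutator_pLayerIn (H : Subgroup G) : ⁅pLayerIn p H, pLayerIn p H⁆ = pLayerIn p H := by
  rw [pLayerIn, ← map_commutator, commutator_pLayer]

/-! ### `p`-components and subnormal subgroups -/

/-- A `p`-component lies in a subnormal subgroup `H`, or centralises it modulo `O_{p'}(G)`. -/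
theorem pcomp_le_or_commutator_le {K H : Subgroup G} (hK : IsPComponent p K)
    (hH : H.IsSubnormal) : K ≤ H ∨ ⁅K, H⁆ ≤ pPrimeCore p G := by
  rcases Cfsg.Agent.S1261.result _ _ hK.2.1 (hH.map modCore_surjective) with h | h
  · exact Or.inl ((pcomp_eq_pGen_sup hK).ge.trans (pGen_le_of_map_modCore_le hH h))
  · rw [← map_commutator, map_modCore_eq_bot_iff] at h
    exact Or.inr h

theorem PCompIn.le_or_commutator_le {K H M : Subgroup G} (hK : PCompIn p K M) (hHM : H ≤ M)
    (hH : (H.subgroupOf M).IsSubnormal) : K ≤ H ∨ ⁅K, H⁆ ≤ ppCore p M := by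
  rcases pcomp_le_or_commutator_le hK.2 hH with h | h
  · left
    have := map_mono (f := M.subtype) h
    rwa [map_subgroupOf_eq_of_le hK.le, map_subgroupOf_eq_of_le hHM] at this
  · right
    have := map_mono (f := M.subtype) h
    rwa [map_commutator, map_subgroupOf_eq_of_le hK.le, map_subgroupOf_eq_of_le hHM] at this

theorem pcomp_eq_of_le {K L : Subgroup G} (hK : IsPComponent p K) (hL : IsPComponent p L)
    (h : K ≤ L) : K = L :=
  pcomp_eq_of_map_eq hK hL (component_eq_of_le hK.2.1 hL.2.1 (map_mono h))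

theorem PCompIn.eq_of_le {K L H : Subgroup G} (hK : PCompIn p K H) (hL : PCompIn p L H)
    (h : K ≤ L) : K = L := by
  have := pcomp_eq_of_le hK.2 hL.2 (comap_mono h)
  rw [← map_subgroupOf_eq_of_le hK.le, this, map_subgroupOf_eq_of_le hL.le]

theorem pcomp_le_normalizer {K L : Subgroup G} (hK : IsPComponent p K) (hL : IsPComponent p L) :
    L ≤ normalizer (K : Set G) :=
  (pcomp_le_pLayer hL).trans (pLayer_le_normalizer hK)

/-- Distinct `p`-components `K`, `L` satisfy `[K, L] ≤ O_{p'}(K) ∩ O_{p'}(L)`. -/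
theorem pcomp_commutator_le {K L : Subgroup G} (hK : IsPComponent p K) (hL : IsPComponent p L)
    (hne : K ≠ L) : ⁅K, L⁆ ≤ ppCore p K ⊓ ppCore p L := by
  have h1 := (pcomp_le_or_commutator_le hK hL.1).resolve_left
    fun h => hne (pcomp_eq_of_le hK hL h)
  rw [ppCore_eq_inf hK.1, ppCore_eq_inf hL.1]
  exact le_inf (le_inf h1 (le_normalizer_iff_commutator_le_left.1 (pcomp_le_normalizer hK hL)))
    (le_inf h1 (le_normalizer_iff_commutator_le_right.1 (pcomp_le_normalizer hL hK)))

theorem PCompIn.le_normalizer {K H : Subgroup G} (hK : PCompIn p K H) :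
    pLayerIn p H ⊔ ppCore p H ≤ normalizer (K : Set G) := by
  have := (map_mono (f := H.subtype) (pLayer_sup_le_normalizer hK.2)).trans
    (le_normalizer_map _)
  rwa [Subgroup.map_sup, map_subgroupOf_eq_of_le hK.le] at this

theorem PCompIn.commutator_le {K L H : Subgroup G} (hK : PCompIn p K H) (hL : PCompIn p L H)
    (hne : K ≠ L) : ⁅K, L⁆ ≤ ppCore p K ⊓ ppCore p L := by
  have h1 := map_mono (f := H.subtype) (pcomp_commutator_le hK.2 hL.2 fun h => hne (by
    rw [← map_subgroupOf_eq_of_le hK.le, h, map_subgroupOf_eq_of_le hL.le]))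
  rwa [map_commutator, map_inf _ _ _ H.subtype_injective,
    map_ppCore_of_injective H.subtype_injective, map_ppCore_of_injective H.subtype_injective,
    map_subgroupOf_eq_of_le hK.le, map_subgroupOf_eq_of_le hL.le] at h1

/-- A component of order divisible by `p` is a `p`-component. -/
theorem pcomp_of_component {K : Subgroup G} (hK : IsComponent K) (hd : p ∣ Nat.card K) :
    IsPComponent p K :=
  isPComponent_iff.2 ⟨hK.1, pQuasi_of_quasisimple hK.2 hd⟩

/-- If `O_{p'}(G) = 1`, the `p`-components are the components. -/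
theorem pcomp_iff_component (hO : pPrimeCore p G = ⊥) {K : Subgroup G} :
    IsPComponent p K ↔ IsComponent K := by
  refine ⟨fun h => ⟨h.1, (pcomp_pQuasi h).quasisimple_iff.2 ?_⟩,
    fun h => pcomp_of_component h (dvd_card_of_component hO h)⟩
  rw [ppCore_eq_inf h.1, hO, bot_inf_eq, commutator_bot_right]

theorem pLayer_eq_layer (hO : pPrimeCore p G = ⊥) : pLayer p G = layer G := by
  rw [pLayer, layer]
  congr 1
  exact Set.ext fun _ => pcomp_iff_component hO

/-- A `p`-component inside the layer is a component. -/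
theorem component_of_pcomp_of_le_layer {K : Subgroup G} (hK : IsPComponent p K)
    (h : K ≤ layer G) : IsComponent K := by
  by_contra hc
  have h1 : (layer G).map (modCore p G) ≤
      centralizer ((K.map (modCore p G) : Subgroup _) : Set (G ⧸ pPrimeCore p G)) := by
    rw [map_le_iff_le_comap]
    refine sSup_le fun L hL => ?_
    rw [← map_le_iff_le_comap, ← commutator_eq_bot_iff_le_centralizer, ← map_commutator,
      map_modCore_eq_bot_iff]
    by_cases hd : p ∣ Nat.card L
    · refine (pcomp_commutator_le (pcomp_of_component hL hd) hK ?_).trans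
        (inf_le_right.trans (ppCore_le_pPrimeCore hK.1))
      rintro rfl
      exact hc hL
    · exact (commutator_mono (le_pPrimeCore_of_isSubnormal hL.1
        ((Nat.Prime.coprime_iff_not_dvd hp.out).2 hd).symm) le_rfl).trans (commutator_le_left _ _)
  exact quasisimple_not_le_centralizer hK.2.1.2 ((map_mono h).trans h1)

/-- `E(G) ≤ L_{p'}(G) O_{p'}(G)`. -/
theorem layer_le_pLayer_sup : layer G ≤ pLayer p G ⊔ pPrimeCore p G := by
  rw [← comap_layer_modCore, ← map_le_iff_le_comap]
  exact map_layer_le modCore_surjective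

theorem pLayer_eq_bot_iff : pLayer p G = ⊥ ↔ layer (G ⧸ pPrimeCore p G) = ⊥ := by
  refine ⟨fun h => by rw [← map_pLayer_modCore, h, Subgroup.map_bot], fun h => ?_⟩
  rw [pLayer_eq_pGen, h, MonoidHom.comap_bot, ker_modCore, pGen_eq_bot_iff]
  exact (Nat.Prime.coprime_iff_not_dvd hp.out).1 coprime_card_pPrimeCore'.symm

theorem pLayer_eq_bot_iff_forall : pLayer p G = ⊥ ↔ ∀ K : Subgroup G, ¬ IsPComponent p K :=
  ⟨fun h _ hK => (pcomp_pQuasi hK).ne_bot (le_bot_iff.1 (h ▸ pcomp_le_pLayer hK)),
    fun h => le_bot_iff.1 (pLayer_le_iff.2 fun K hK => (h K hK).elim)⟩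

omit hp in
/-- A `p`-component of `H` contained in `M N`, with `M` subnormal in `M N` and `N` a normal
`p'`-subgroup, lies in `M`. -/
theorem PQuasi.le_of_le_sup {K M N : Subgroup G} [N.Normal] (hK : PQuasi p K)
    (hN : (Nat.card N).Coprime p) (hM : M.IsSubnormal) (h : K ≤ M ⊔ N) : K ≤ M :=
  hK.1.ge.trans (pGen_le_of_le_sup hN hM.subgroupOf h)

end CL.PComp
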