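import Cfsg.Agent.Base
import Cfsg.Agent.Transfer.PCompl
import Cfsg.Agent.Transfer.SylowIn

/-!
# `O^{p'}(H)` : the subgroup generated by the `p`-elements of a subgroup `H`

`pGen p H` is the subgroup of the ambient group generated by the `p`-elements of `H`.
-/

set_option autoImplicit false

open Cfsg Subgroup
open scoped Pointwise

namespace CL.PComp

open CL.Transfer

variable {G : Type*} [Group G] {p : ℕ}

/-- `O^{p'}(H)`, as a subgroup of the ambient group: the subgroup generated by the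
`p`-elements of `H`. -/
def pGen (p : ℕ) (H : Subgroup G) : Subgroup G :=
  closure {x : G | x ∈ H ∧ ∃ k : ℕ, x ^ p ^ k = 1}

theorem mem_pGen {H : Subgroup G} {x : G} (hx : x ∈ H) {k : ℕ} (hk : x ^ p ^ k = 1) :
    x ∈ pGen p H :=
  subset_closure ⟨hx, k, hk⟩

theorem pGen_le_iff {H K : Subgroup G} :
    pGen p H ≤ K ↔ ∀ x ∈ H, ∀ k : ℕ, x ^ p ^ k = 1 → x ∈ K := by
  rw [pGen, closure_le]
  exact ⟨fun h x hx k hk => h ⟨hx, k, hk⟩, fun h x ⟨hx, k, hk⟩ => h x hx k hk⟩

theorem pGen_le (H : Subgroup G) : pGen p H ≤ H :=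
  pGen_le_iff.2 fun _ hx _ _ => hx

theorem pGen_mono {H K : Subgroup G} (h : H ≤ K) : pGen p H ≤ pGen p K :=
  pGen_le_iff.2 fun _ hx _ hk => mem_pGen (h hx) hk

theorem pGen_pGen (H : Subgroup G) : pGen p (pGen p H) = pGen p H :=
  le_antisymm (pGen_le _) (pGen_le_iff.2 fun _ hx _ hk => mem_pGen (mem_pGen hx hk) hk)

theorem pGen_eq_of_le_of_le {H K : Subgroup G} (h1 : pGen p K ≤ H) (h2 : H ≤ K) :
    pGen p H = pGen p K :=
  le_antisymm (pGen_mono h2) (by rw [← pGen_pGen K]; exact pGen_mono h1)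

theorem le_pGen_of_isPGroup {P H : Subgroup G} (hP : IsPGroup p P) (h : P ≤ H) :
    P ≤ pGen p H := fun x hx => by
  obtain ⟨k, hk⟩ := hP ⟨x, hx⟩
  exact mem_pGen (h hx) (k := k) (by simpa using congrArg Subtype.val hk)

theorem map_pGen_le {G' : Type*} [Group G'] (f : G →* G') (H : Subgroup G) :
    (pGen p H).map f ≤ pGen p (H.map f) := by
  rw [map_le_iff_le_comap, pGen_le_iff]
  intro x hx k hk
  exact mem_pGen (mem_map_of_mem f hx) (k := k) (by rw [← map_pow, hk, map_one])

theorem map_pGen_of_injective {G' : Type*} [Group G'] {f : G →* G'} (hf : Function.Injective f)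
    (H : Subgroup G) : (pGen p H).map f = pGen p (H.map f) := by
  refine le_antisymm (map_pGen_le f H) (pGen_le_iff.2 ?_)
  rintro _ ⟨x, hx, rfl⟩ k hk
  exact mem_map_of_mem f (mem_pGen hx (k := k) (hf (by rw [map_pow, hk, map_one])))

theorem conj_smul_pGen (g : G) (H : Subgroup G) :
    MulAut.conj g • pGen p H = pGen p (MulAut.conj g • H) :=
  map_pGen_of_injective (f := (MulAut.conj g).toMonoidHom) (MulAut.conj g).injective H

theorem normalizer_le_normalizer_pGen (H : Subgroup G) :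
    normalizer (H : Set G) ≤ normalizer ((pGen p H : Subgroup G) : Set G) := by
  intro g hg
  rw [← conj_smul_eq_iff_mem_normalizer] at hg ⊢
  rw [conj_smul_pGen, hg]

theorem le_normalizer_pGen (H : Subgroup G) :
    H ≤ normalizer ((pGen p H : Subgroup G) : Set G) :=
  le_normalizer.trans (normalizer_le_normalizer_pGen H)

theorem pGen_normal (H : Subgroup G) [hH : H.Normal] : (pGen p H).Normal := by
  rw [← normalizer_eq_top_iff, eq_top_iff]
  exact (normalizer_eq_top_iff.2 hH).ge.trans (normalizer_le_normalizer_pGen H)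

theorem pGen_subgroupOf_normal (H : Subgroup G) : ((pGen p H).subgroupOf H).Normal :=
  normal_subgroupOf_of_le_normalizer (le_normalizer_pGen H)

theorem pGen_isSubnormal {H : Subgroup G} (hH : H.IsSubnormal) : (pGen p H).IsSubnormal :=
  IsSubnormal.step _ H (pGen_le H) hH (pGen_subgroupOf_normal H)

theorem subgroupOf_pGen {H K : Subgroup G} (h : H ≤ K) :
    (pGen p H).subgroupOf K = pGen p (H.subgroupOf K) := by
  rw [← map_subtype_inj, map_pGen_of_injective K.subtype_injective, map_subgroupOf_eq_of_le h,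
    map_subgroupOf_eq_of_le ((pGen_le H).trans h)]

theorem map_subtype_pGen_top (H : Subgroup G) :
    (pGen p (⊤ : Subgroup H)).map H.subtype = pGen p H := by
  rw [map_pGen_of_injective H.subtype_injective, ← MonoidHom.range_eq_map, range_subtype]

/-- A `p`-element lies in every subnormal subgroup of index prime to `p`. -/
theorem mem_of_isSubnormal_of_coprime_index {H : Subgroup G} (hH : H.IsSubnormal)
    (hi : H.index.Coprime p) {x : G} {k : ℕ} (hk : x ^ p ^ k = 1) : x ∈ H := by
  induction hH with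
  | top => trivial
  | step H K hle _ hN ih =>
    have hxK : x ∈ K := ih (Nat.Coprime.coprime_dvd_left (index_dvd_of_le hle) hi)
    have h1 : ((⟨x, hxK⟩ : K) : K ⧸ H.subgroupOf K) = 1 := by
      refine eq_one_of_pow_eq_one_of_coprime (p := p) (k := k) ?_ ?_
      · rw [← QuotientGroup.mk_pow]
        have : (⟨x, hxK⟩ : K) ^ p ^ k = 1 := Subtype.ext hk
        rw [this, QuotientGroup.mk_one]
      · refine Nat.Coprime.coprime_dvd_left ((_root_.orderOf_dvd_natCard _).trans ?_) hi
        exact relIndex_dvd_index_of_le hle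
    exact (QuotientGroup.eq_one_iff (N := H.subgroupOf K) (⟨x, hxK⟩ : K)).1 h1

/-- Ambient form: if `H ≤ M`, `H` is subnormal in `M` and `[M : H]` is prime to `p`, then
`O^{p'}(M) ≤ H`. -/
theorem pGen_le_of_isSubnormal {H M : Subgroup G} (hH : (H.subgroupOf M).IsSubnormal)
    (hi : (H.relIndex M).Coprime p) : pGen p M ≤ H :=
  pGen_le_iff.2 fun x hx _ hk =>
    mem_of_isSubnormal_of_coprime_index (x := (⟨x, hx⟩ : M)) hH hi (Subtype.ext hk)

/-- `[H N : H]` divides `|N|` for a normal subgroup `N`. -/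
theorem relIndex_sup_dvd_card [Finite G] (H N : Subgroup G) [N.Normal] :
    H.relIndex (H ⊔ N) ∣ Nat.card N := by
  have h1 : H.relIndex (H ⊔ N) * Nat.card H = Nat.card (H ⊔ N : Subgroup G) := by
    rw [← relIndex_bot_left H, ← relIndex_bot_left (H ⊔ N), mul_comm]
    exact relIndex_mul_relIndex ⊥ H _ bot_le le_sup_left
  have h2 : N.relIndex H * Nat.card N = Nat.card (H ⊔ N : Subgroup G) := by
    rw [← relIndex_sup_right, ← relIndex_bot_left N, ← relIndex_bot_left (H ⊔ N), mul_comm]
    exact relIndex_mul_relIndex ⊥ N _ bot_le le_sup_right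
  have h3 : N.relIndex H * Nat.card (N ⊓ H : Subgroup G) = Nat.card H := by
    rw [← inf_relIndex_right, ← relIndex_bot_left H, ← relIndex_bot_left (N ⊓ H), mul_comm]
    exact relIndex_mul_relIndex ⊥ _ _ bot_le inf_le_right
  have h4 : N.relIndex H ≠ 0 := FiniteIndex.index_ne_zero
  refine ⟨Nat.card (N ⊓ H : Subgroup G), Nat.eq_of_mul_eq_mul_left (Nat.pos_of_ne_zero h4) ?_⟩
  rw [h2, ← h1, ← h3]
  ring

/-- If `H` is subnormal in `H N` and `M ≤ H N` with `N` a normal subgroup of order prime to `p`,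
then `O^{p'}(M) ≤ H`. -/
theorem pGen_le_of_le_sup [Finite G] {H M N : Subgroup G} [N.Normal]
    (hN : (Nat.card N).Coprime p) (hH : (H.subgroupOf (H ⊔ N)).IsSubnormal) (hM : M ≤ H ⊔ N) :
    pGen p M ≤ H :=
  (pGen_mono hM).trans (pGen_le_of_isSubnormal hH
    (Nat.Coprime.coprime_dvd_left (relIndex_sup_dvd_card H N) hN))

variable [Finite G] [hp : Fact p.Prime]

theorem map_pGen {G' : Type*} [Group G'] (f : G →* G') (H : Subgroup G) :
    (pGen p H).map f = pGen p (H.map f) := by
  refine le_antisymm (map_pGen_le f H) (pGen_le_iff.2 ?_)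
  rintro _ ⟨x, hx, rfl⟩ k hk
  obtain ⟨a, ha, ⟨j, hj⟩, hfa⟩ := exists_p_lift f x hk
  exact ⟨a, mem_pGen (zpowers_le.2 hx ha) hj, hfa⟩

theorem not_dvd_relIndex_pGen (H : Subgroup G) : ¬ p ∣ (pGen p H).relIndex H := by
  obtain ⟨Q, hQ⟩ := exists_isSylowIn (p := p) H
  exact fun h => hQ.not_dvd
    (h.trans (relIndex_dvd_of_le_left H (le_pGen_of_isPGroup hQ.isPGroup hQ.le)))

theorem coprime_relIndex_pGen (H : Subgroup G) : ((pGen p H).relIndex H).Coprime p :=
  ((Nat.Prime.coprime_iff_not_dvd hp.out).2 (not_dvd_relIndex_pGen H)).symm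

theorem pGen_eq_bot_iff {H : Subgroup G} : pGen p H = ⊥ ↔ ¬ p ∣ Nat.card H := by
  constructor
  · intro h
    have := not_dvd_relIndex_pGen (p := p) H
    rwa [h, relIndex_bot_left] at this
  · intro h
    rw [eq_bot_iff, pGen_le_iff]
    intro x hx k hk
    exact eq_one_of_pow_eq_one_of_coprime hk (not_dvd_card_subgroup_iff.1 h x hx)

end CL.PComp
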