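import Cfsg.Agent.PComp.Core
import Cfsg.Agent.S1259
import Cfsg.Agent.S1261

/-!
# Small facts on quasisimple groups and components used for `p`-components
-/

set_option autoImplicit false

open Cfsg Subgroup
open scoped Pointwise

namespace CL.PComp

open CL.Transfer

variable {G : Type*} [Group G] {p : ℕ}

theorem map_center_le {G' : Type*} [Group G'] {f : G →* G'} (hf : Function.Surjective f) :
    (center G).map f ≤ center G' := by
  rintro _ ⟨z, hz, rfl⟩
  rw [mem_center_iff]
  intro y
  obtain ⟨x, rfl⟩ := hf y
  rw [← map_mul, ← map_mul, mem_center_iff.1 hz]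

/-- For a perfect group and a surjection with central kernel, the centre is the preimage of the
centre. -/
theorem comap_center_of_perfect {G' : Type*} [Group G'] [hG : Group.IsPerfect G] {f : G →* G'}
    (hf : Function.Surjective f) (hk : f.ker ≤ center G) : (center G').comap f = center G := by
  refine le_antisymm ?_ (map_le_iff_le_comap.1 (map_center_le hf))
  set Z := (center G').comap f
  have h1 : ⁅Z, (⊤ : Subgroup G)⁆ ≤ center G := by
    refine le_trans ?_ hk
    rw [commutator_le]
    intro z hz g _
    rw [MonoidHom.mem_ker, map_commutatorElement, commutatorElement_eq_one_iff_mul_comm]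
    exact (mem_center_iff.1 hz _).symm
  have h2 : ⁅⁅Z, (⊤ : Subgroup G)⁆, (⊤ : Subgroup G)⁆ = ⊥ :=
    commutator_top_right_eq_bot_iff_le_center.2 h1
  have h3 : ⁅⁅(⊤ : Subgroup G), (⊤ : Subgroup G)⁆, Z⁆ = ⊥ :=
    commutator_commutator_eq_bot_of_rotate (by rwa [commutator_comm ⊤ Z]) h2
  have h4 : ⁅(⊤ : Subgroup G), (⊤ : Subgroup G)⁆ = ⊤ := hG.commutator_eq_top
  rw [h4, commutator_comm] at h3
  exact commutator_top_right_eq_bot_iff_le_center.1 h3

/-- For a perfect group and a surjection with central kernel, the central quotients agree. -/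
theorem nonempty_quotient_center_equiv {G' : Type*} [Group G'] [Group.IsPerfect G] {f : G →* G'}
    (hf : Function.Surjective f) (hk : f.ker ≤ center G) :
    Nonempty (G ⧸ center G ≃* G' ⧸ center G') := by
  have h1 : ((QuotientGroup.mk' (center G')).comp f).ker = center G := by
    rw [← comap_center_of_perfect hf hk, ← MonoidHom.comap_ker, QuotientGroup.ker_mk']
  exact ⟨(QuotientGroup.quotientMulEquivOfEq h1.symm).trans
    (QuotientGroup.quotientKerEquivOfSurjective _
      ((QuotientGroup.mk'_surjective _).comp hf))⟩

theorem quasisimple_iff_of_ker_le_center {G' : Type*} [Group G'] [Group.IsPerfect G]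
    {f : G →* G'} (hf : Function.Surjective f) (hk : f.ker ≤ center G) :
    IsQuasisimple G ↔ IsQuasisimple G' := by
  obtain ⟨e⟩ := nonempty_quotient_center_equiv hf hk
  exact ⟨fun h => ⟨Group.IsPerfect.ofSurjective hf, by have := h.2; exact e.symm.isSimpleGroup⟩,
    fun h => ⟨inferInstance, by have := h.2; exact e.isSimpleGroup⟩⟩

theorem quasisimple_of_equiv {G' : Type*} [Group G'] (h : IsQuasisimple G) (e : G ≃* G') :
    IsQuasisimple G' := by
  have := h.1
  refine (quasisimple_iff_of_ker_le_center (f := e.toMonoidHom) e.surjective ?_).1 h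
  rw [(MonoidHom.ker_eq_bot_iff _).2 e.injective]
  exact bot_le

theorem quasisimple_congr {G' : Type*} [Group G'] (e : G ≃* G') :
    IsQuasisimple G ↔ IsQuasisimple G' :=
  ⟨fun h => quasisimple_of_equiv h e, fun h => quasisimple_of_equiv h e.symm⟩

theorem quasisimple_map_of_injective {G' : Type*} [Group G'] {f : G →* G'}
    (hf : Function.Injective f) (K : Subgroup G) : IsQuasisimple (K.map f) ↔ IsQuasisimple K :=
  (quasisimple_congr (K.equivMapOfInjective f hf)).symm

theorem quasisimple_subgroupOf {K H : Subgroup G} (h : K ≤ H) :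
    IsQuasisimple (K.subgroupOf H) ↔ IsQuasisimple K :=
  quasisimple_congr (subgroupOfEquivOfLe h)

theorem quasisimple_nontrivial (h : IsQuasisimple G) : Nontrivial G := by
  have := h.2
  exact (QuotientGroup.mk'_surjective (center G)).nontrivial

theorem quasisimple_ne_bot {K : Subgroup G} (h : IsQuasisimple K) : K ≠ ⊥ :=
  (nontrivial_iff_ne_bot K).1 (quasisimple_nontrivial h)

theorem quasisimple_commutator_eq {K : Subgroup G} (h : IsQuasisimple K) : ⁅K, K⁆ = K :=
  isPerfect_iff.1 h.1

theorem quasisimple_not_le_centralizer {K : Subgroup G} (h : IsQuasisimple K) :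
    ¬ K ≤ centralizer (K : Set G) := fun h' =>
  quasisimple_ne_bot h
    ((quasisimple_commutator_eq h).symm.trans (commutator_eq_bot_iff_le_centralizer.2 h'))

theorem quasisimple_center_ne_top (h : IsQuasisimple G) : center G ≠ ⊤ := fun h' => by
  have := h.2
  have : Subsingleton (G ⧸ center G) := by rw [h']; exact QuotientGroup.subsingleton_quotient_top
  exact false_of_nontrivial_of_subsingleton (G ⧸ center G)

/-- In a perfect group, the exponent divides the index of the centre. -/
theorem pow_index_center_eq_one [Finite G] [hG : Group.IsPerfect G] (g : G) :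
    g ^ (center G).index = 1 := by
  have h1 : commutator G ≤ (MonoidHom.transferCenterPow G).ker := by
    rw [_root_.commutator_def, commutator_le]
    intro a _ b _
    rw [MonoidHom.mem_ker, map_commutatorElement, commutatorElement_eq_one_iff_mul_comm]
    exact Subtype.ext (mem_center_iff.1 (MonoidHom.transferCenterPow G b).2 _)
  rw [hG.commutator_eq_top] at h1
  exact congrArg Subtype.val (h1 (mem_top g))

/-- Every prime dividing the order of a perfect group divides the index of its centre. -/
theorem dvd_index_center_of_perfect [Finite G] [Group.IsPerfect G] [hp : Fact p.Prime]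
    (h : p ∣ Nat.card G) : p ∣ (center G).index := by
  obtain ⟨g, hg⟩ := exists_prime_orderOf_dvd_card' p h
  exact hg ▸ orderOf_dvd_of_pow_eq_one (pow_index_center_eq_one g)

variable [Finite G]

theorem quasisimple_normal (h : IsQuasisimple G) (N : Subgroup G) [hN : N.Normal] :
    N = ⊤ ∨ N ≤ center G :=
  Cfsg.Agent.S1259.result h N hN.isSubnormal

/-- Ambient form: a subgroup `H` subnormal in a quasisimple subgroup `K` is `K` or central. -/
theorem quasisimple_isSubnormal {K H : Subgroup G} (h : IsQuasisimple K) (hle : H ≤ K)
    (hH : (H.subgroupOf K).IsSubnormal) : H = K ∨ H ≤ centralizer (K : Set G) := by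
  rcases Cfsg.Agent.S1259.result h _ hH with h1 | h1
  · exact Or.inl (le_antisymm hle (subgroupOf_eq_top.1 h1))
  · refine Or.inr fun x hx => mem_centralizer_iff.2 fun k hk => ?_
    exact congrArg Subtype.val (mem_center_iff.1 (h1 (x := ⟨x, hle hx⟩) hx) ⟨k, hk⟩)

theorem quasisimple_le_normalizer {K H : Subgroup G} (h : IsQuasisimple K) (hle : H ≤ K)
    (hH : K ≤ normalizer (H : Set G)) : H = K ∨ H ≤ centralizer (K : Set G) :=
  quasisimple_isSubnormal h hle (normal_subgroupOf_of_le_normalizer hH).isSubnormal

/-- The image of a quasisimple group is trivial or quasisimple. -/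
theorem quasisimple_map {G' : Type*} [Group G'] (f : G →* G') {K : Subgroup G}
    (h : IsQuasisimple K) : K.map f = ⊥ ∨ IsQuasisimple (K.map f) := by
  have := h.1
  rcases quasisimple_normal h (f.subgroupMap K).ker with h1 | h1
  · left
    rw [Subgroup.map_eq_bot_iff]
    intro x hx
    have : (⟨x, hx⟩ : K) ∈ (f.subgroupMap K).ker := h1 ▸ mem_top _
    exact congrArg Subtype.val this
  · exact Or.inr ((quasisimple_iff_of_ker_le_center (f.subgroupMap_surjective K) h1).1 h)

/-- A quasisimple group of order divisible by `p` is generated by its `p`-elements. -/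
theorem pGen_eq_self_of_quasisimple [hp : Fact p.Prime] {K : Subgroup G} (h : IsQuasisimple K)
    (hd : p ∣ Nat.card K) : pGen p K = K := by
  have := h.1
  rcases quasisimple_normal h ((pGen p K).subgroupOf K) (hN := pGen_subgroupOf_normal K)
    with h1 | h1
  · exact le_antisymm (pGen_le K) (subgroupOf_eq_top.1 h1)
  · exact absurd ((dvd_index_center_of_perfect hd).trans (index_dvd_of_le h1))
      (not_dvd_relIndex_pGen K)

/-- A Sylow `p`-subgroup of a quasisimple group of order divisible by `p` is not central. -/
theorem not_le_centralizer_of_isSylowIn [hp : Fact p.Prime] {K Q : Subgroup G}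
    (h : IsQuasisimple K) (hd : p ∣ Nat.card K) (hQ : IsSylowIn p Q K) :
    ¬ Q ≤ centralizer (K : Set G) := fun hc => by
  have := h.1
  have h1 : Q.subgroupOf K ≤ center K := fun x hx =>
    mem_center_iff.2 fun k => Subtype.ext (mem_centralizer_iff.1 (hc hx) k k.2)
  exact hQ.not_dvd ((dvd_index_center_of_perfect hd).trans (index_dvd_of_le h1))

/-! ### components -/

omit [Finite G] in
theorem component_le_layer {K : Subgroup G} (h : IsComponent K) : K ≤ layer G := le_sSup h

omit [Finite G] in
theorem component_map_equiv {G' : Type*} [Group G'] (e : G ≃* G') {K : Subgroup G}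
    (h : IsComponent K) : IsComponent (K.map e.toMonoidHom) :=
  ⟨h.1.map e.surjective, (quasisimple_map_of_injective e.injective K).2 h.2⟩

omit [Finite G] in
theorem component_conj_smul {K : Subgroup G} (h : IsComponent K) (g : G) :
    IsComponent (MulAut.conj g • K) :=
  component_map_equiv (MulAut.conj g) h

omit [Finite G] in
theorem map_layer_equiv {G' : Type*} [Group G'] (e : G ≃* G') :
    (layer G).map e.toMonoidHom = layer G' := by
  refine le_antisymm ?_ ?_
  · rw [layer, (gc_map_comap _).l_sSup, iSup₂_le_iff]
    exact fun K hK => component_le_layer (component_map_equiv e hK)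
  · refine sSup_le fun K hK => ?_
    have : K = (K.map e.symm.toMonoidHom).map e.toMonoidHom := by
      rw [map_map]; ext x; simp
    rw [this]
    exact map_mono (component_le_layer (component_map_equiv e.symm hK))

omit [Finite G] in
theorem layer_normal' : (layer G).Normal :=
  ⟨fun n hn g => by
    have := map_layer_equiv (MulAut.conj g)
    exact this.le (mem_map_of_mem _ hn)⟩

theorem component_map {G' : Type*} [Group G'] {f : G →* G'} (hf : Function.Surjective f)
    {K : Subgroup G} (h : IsComponent K) : K.map f = ⊥ ∨ IsComponent (K.map f) :=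
  (quasisimple_map f h.2).imp id fun h' => ⟨h.1.map hf, h'⟩

theorem map_layer_le {G' : Type*} [Group G'] {f : G →* G'} (hf : Function.Surjective f) :
    (layer G).map f ≤ layer G' := by
  rw [layer, (gc_map_comap _).l_sSup, iSup₂_le_iff]
  intro K hK
  rcases component_map hf hK with h | h
  · exact h.le.trans bot_le
  · exact component_le_layer h

theorem component_eq_of_le {K L : Subgroup G} (hK : IsComponent K) (hL : IsComponent L)
    (h : K ≤ L) : K = L :=
  (quasisimple_isSubnormal hL.2 h hK.1.subgroupOf).resolve_right fun h' =>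
    quasisimple_not_le_centralizer hK.2 (h'.trans (centralizer_le h))

/-- Distinct components commute. -/
theorem component_commutator_eq_bot {K L : Subgroup G} (hK : IsComponent K) (hL : IsComponent L)
    (h : K ≠ L) : ⁅K, L⁆ = ⊥ :=
  (Cfsg.Agent.S1261.result K L hK hL.1).resolve_left fun h' => h (component_eq_of_le hK hL h')

theorem layer_le_normalizer {K : Subgroup G} (hK : IsComponent K) :
    layer G ≤ normalizer (K : Set G) := by
  refine sSup_le fun L hL => ?_
  by_cases h : L = K
  · exact h ▸ le_normalizer
  · exact (commutator_eq_bot_iff_le_centralizer.1 (component_commutator_eq_bot hL hK h)).trans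
      (centralizer_le_normalizer _)

/-- If `O_{p'}(G) = 1`, every component has order divisible by `p`. -/
theorem dvd_card_of_component [hp : Fact p.Prime] (hO : pPrimeCore p G = ⊥) {K : Subgroup G}
    (hK : IsComponent K) : p ∣ Nat.card K := by
  by_contra h
  have := le_pPrimeCore_of_isSubnormal hK.1 ((Nat.Prime.coprime_iff_not_dvd hp.out).2 h).symm
  rw [hO, le_bot_iff] at this
  exact quasisimple_ne_bot hK.2 this

end CL.PComp
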